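import Mathlib
import Cfsg.Agent.Lib.RadicalBound.HermOrbit
import Cfsg.Agent.Lib.SLPerfect

/-! The parabolic subgroup of a point and the transvections of `SL_{l+1}(q)`. -/

set_option autoImplicit false

namespace CfsgLib.SLMin

open Matrix CfsgLib.RadicalBound

variable {F : Type*} [Field F]

/-- A block upper triangular matrix. -/
def blkM {l : ℕ} (d : F) (b : Fin l → F) (A : Matrix (Fin l) (Fin l) F) : Matrix (Fin (l + 1)) (Fin (l + 1)) F :=
  Matrix.of (Fin.cons (Fin.cons d b) fun i => Fin.cons 0 (A i))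

section blocks

variable {l : ℕ}

theorem blkM_00 (d : F) (b : Fin l → F) (A : Matrix (Fin l) (Fin l) F) : blkM d b A 0 0 = d := rfl

theorem blkM_0s (d : F) (b : Fin l → F) (A : Matrix (Fin l) (Fin l) F) (j : Fin l) :
    blkM d b A 0 j.succ = b j := by simp [blkM]

theorem blkM_s0 (d : F) (b : Fin l → F) (A : Matrix (Fin l) (Fin l) F) (i : Fin l) :
    blkM d b A i.succ 0 = 0 := by simp [blkM]

theorem blkM_ss (d : F) (b : Fin l → F) (A : Matrix (Fin l) (Fin l) F) (i j : Fin l) :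
    blkM d b A i.succ j.succ = A i j := by simp [blkM]

theorem blkM_mul (d d' : F) (b b' : Fin l → F) (A A' : Matrix (Fin l) (Fin l) F) :
    blkM d b A * blkM d' b' A' = blkM (d * d') (d • b' + b ᵥ* A') (A * A') := by
  ext i j
  induction i using Fin.cases <;> induction j using Fin.cases <;>
    simp [Matrix.mul_apply, Fin.sum_univ_succ, blkM_00, blkM_0s, blkM_s0, blkM_ss, vecMul, dotProduct]

theorem blkM_one : blkM (1 : F) (0 : Fin l → F) 1 = 1 := by
  ext i j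
  induction i using Fin.cases <;> induction j using Fin.cases <;>
    simp [blkM_00, blkM_0s, blkM_s0, blkM_ss, Matrix.one_apply, Fin.succ_ne_zero, (Fin.succ_ne_zero _).symm]

theorem blkM_det (d : F) (b : Fin l → F) (A : Matrix (Fin l) (Fin l) F) : (blkM d b A).det = d * A.det := by
  rw [det_succ_column_zero, Fin.sum_univ_succ]
  have e : (blkM d b A).submatrix Fin.succ Fin.succ = A := by
    ext i j
    simp [blkM_ss]
  simp [blkM_00, blkM_s0, e]

theorem blkM_col (d : F) (b : Fin l → F) (A : Matrix (Fin l) (Fin l) F) :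
    blkM d b A *ᵥ Pi.single 0 1 = Pi.single 0 d := by
  rw [mulVec_single_one]
  funext i
  induction i using Fin.cases <;> simp [Matrix.col, blkM_00, blkM_s0]

/-- The radical. -/
def tx (b : Fin l → F) : SpecialLinearGroup (Fin (l + 1)) F := ⟨blkM 1 b 1, by rw [blkM_det]; simp⟩

theorem tx_coe (b : Fin l → F) : (tx b : Matrix (Fin (l + 1)) (Fin (l + 1)) F) = blkM 1 b 1 := rfl

theorem tx_add (b b' : Fin l → F) : tx (b + b') = tx b * tx b' := by
  refine Subtype.ext ?_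
  show blkM 1 (b + b') 1 = blkM 1 b 1 * blkM 1 b' 1
  rw [blkM_mul]
  simp [add_comm]

theorem tx_zero : tx (0 : Fin l → F) = 1 := Subtype.ext blkM_one

/-- A Levi element. -/
def lev (d : F) (A : Matrix (Fin l) (Fin l) F) (h : d * A.det = 1) : SpecialLinearGroup (Fin (l + 1)) F :=
  ⟨blkM d 0 A, by rw [blkM_det, h]⟩

theorem lev_tx (d : F) (A : Matrix (Fin l) (Fin l) F) (h : d * A.det = 1) (b b' : Fin l → F)
    (hb : b' ᵥ* A = d • b) : lev d A h * tx b = tx b' * lev d A h := by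
  refine Subtype.ext ?_
  show blkM d 0 A * blkM 1 b 1 = blkM 1 b' 1 * blkM d 0 A
  rw [blkM_mul, blkM_mul, hb]
  simp

/-- The embedding of the smaller special linear group. -/
def emb : SpecialLinearGroup (Fin l) F →* SpecialLinearGroup (Fin (l + 1)) F where
  toFun A := lev 1 A.1 (by rw [one_mul]; exact A.2)
  map_one' := Subtype.ext blkM_one
  map_mul' A B := Subtype.ext (by
    show blkM 1 0 (A.1 * B.1) = blkM 1 0 A.1 * blkM 1 0 B.1
    rw [blkM_mul]
    simp)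

theorem emb_coe (A : SpecialLinearGroup (Fin l) F) :
    (emb A : Matrix (Fin (l + 1)) (Fin (l + 1)) F) = blkM 1 0 A.1 := rfl

/-- The stabiliser of the first basis vector is the radical times the smaller group. -/
theorem stab_eq {g : SpecialLinearGroup (Fin (l + 1)) F}
    (hg : (g : Matrix (Fin (l + 1)) (Fin (l + 1)) F) *ᵥ Pi.single 0 1 = Pi.single 0 1) :
    ∃ (b : Fin l → F) (A : SpecialLinearGroup (Fin l) F), g = tx b * emb A := by
  have hcol : ∀ i, g.1 i 0 = (Pi.single 0 1 : Fin (l + 1) → F) i := fun i => by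
    rw [mulVec_single_one] at hg
    exact congrFun hg i
  let A : Matrix (Fin l) (Fin l) F := Matrix.of fun i j => g.1 i.succ j.succ
  let b : Fin l → F := fun j => g.1 0 j.succ
  have hg' : g.1 = blkM 1 b A := by
    ext i j
    induction i using Fin.cases <;> induction j using Fin.cases <;>
      simp [blkM_00, blkM_0s, blkM_s0, blkM_ss, A, b, hcol, Fin.succ_ne_zero]
  have hA : A.det = 1 := by
    have := g.2
    rw [hg', blkM_det, one_mul] at this
    exact this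
  refine ⟨b ᵥ* A⁻¹, ⟨A, hA⟩, Subtype.ext ?_⟩
  show g.1 = blkM 1 (b ᵥ* A⁻¹) 1 * blkM 1 0 A
  rw [blkM_mul, hg', vecMul_vecMul, nonsing_inv_mul _ (by rw [hA]; exact isUnit_one)]
  simp

end blocks

section move

variable {ι : Type*} [Fintype ι] [DecidableEq ι]

/-- Determinant correction keeping a pair. -/
theorem exists_det_fix_pair (h3 : 3 ≤ Fintype.card ι) {μ x : ι → F} (hx : x ≠ 0) (d : F) :
    ∃ D : Matrix ι ι F, D.det = d ∧ D *ᵥ x = x ∧ μ ᵥ* D = μ := by
  obtain ⟨i, hi⟩ := Function.ne_iff.1 hx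
  rw [Pi.zero_apply] at hi
  obtain ⟨j, k, hjk, hji, hki⟩ : ∃ j k : ι, j ≠ k ∧ j ≠ i ∧ k ≠ i := by
    obtain ⟨j, k, hj, hk, hjk⟩ := Finset.one_lt_card_iff.1
      (show 1 < (Finset.univ.erase i).card by rw [Finset.card_erase_of_mem (Finset.mem_univ _)]; simp; omega)
    exact ⟨j, k, hjk, Finset.ne_of_mem_erase hj, Finset.ne_of_mem_erase hk⟩
  obtain ⟨u, r, hui, hur, hμu⟩ : ∃ (u : ι → F) (r : ι), u i = 0 ∧ u r ≠ 0 ∧ μ ⬝ᵥ u = 0 := by
    by_cases hj : μ j = 0
    · exact ⟨Pi.single j 1, j, by simp [hji.symm], by simp, by simp [hj]⟩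
    · exact ⟨Pi.single k (μ j) - Pi.single j (μ k), k, by simp [hji.symm, hki.symm], by simp [hjk.symm, hj],
        by simp [dotProduct_sub, mul_comm]⟩
  set lf : ι → F := Pi.single r (u r)⁻¹ - Pi.single i ((u r)⁻¹ * x r / x i) with hlf
  have hlu : lf ⬝ᵥ u = 1 := by simp [lf, sub_dotProduct, hui, hur]
  have hlx : lf ⬝ᵥ x = 0 := by
    simp [lf, sub_dotProduct]
    field_simp
    ring
  refine ⟨1 + vecMulVec ((d - 1) • u) lf, ?_, ?_, ?_⟩
  · rw [det_one_add_vec, dotProduct_smul, hlu]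
    simp
  · rw [add_mulVec, one_mulVec, vecMulVec_mulVec, hlx, MulOpposite.op_zero, zero_smul, add_zero]
  · rw [vecMul_add, vecMul_one, vecMul_vecMulVec, dotProduct_smul, hμu, smul_zero, zero_smul, add_zero]

/-- `SL` moves pairs. -/
theorem exists_sl_pairMap (h3 : 3 ≤ Fintype.card ι) {v x μ φ : ι → F} (hv : v ≠ 0) (hx : x ≠ 0) (hμ : μ ≠ 0)
    (hφ : φ ≠ 0) (h : μ ⬝ᵥ x = φ ⬝ᵥ v) :
    ∃ g : SpecialLinearGroup ι F, (g : Matrix ι ι F) *ᵥ v = x ∧ μ ᵥ* (g : Matrix ι ι F) = φ := by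
  obtain ⟨A, hA, hAv, hμA⟩ := exists_pair_map hv hx hμ hφ h
  obtain ⟨D, hD, hDx, hμD⟩ := exists_det_fix_pair (μ := μ) h3 hx A.det⁻¹
  exact ⟨⟨D * A, by rw [det_mul, hD, inv_mul_cancel₀ hA]⟩, by
    show (D * A) *ᵥ v = x
    rw [← mulVec_mulVec, hAv, hDx], by
    show μ ᵥ* (D * A) = φ
    rw [← vecMul_vecMul, hμD, hμA]⟩

/-- `SL` is transitive on non-zero vectors. -/
theorem exists_sl_vec (h2 : 2 ≤ Fintype.card ι) {v x : ι → F} (hv : v ≠ 0) (hx : x ≠ 0) :
    ∃ g : SpecialLinearGroup ι F, (g : Matrix ι ι F) *ᵥ v = x := by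
  obtain ⟨φ, hφ, -⟩ := exists_dual hv hv
  obtain ⟨μ, hμ, -⟩ := exists_dual hx hx
  have hφ0 : φ ≠ 0 := fun h => by simp [h] at hφ
  have hμ0 : μ ≠ 0 := fun h => by simp [h] at hμ
  obtain ⟨A, hA, hAv, -⟩ := exists_pair_map hv hx hμ0 hφ0 (by rw [hμ, hφ])
  obtain ⟨D, hD, hDx, -⟩ := exists_det_fix (μ := μ) (x := x) h2 (by rw [hμ]; exact one_ne_zero) A.det⁻¹
  exact ⟨⟨D * A, by rw [det_mul, hD, inv_mul_cancel₀ hA]⟩, by
    show (D * A) *ᵥ v = x
    rw [← mulVec_mulVec, hAv, hDx]⟩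

/-- A transvection. -/
def vt (u φ : ι → F) (h : φ ⬝ᵥ u = 0) : SpecialLinearGroup ι F :=
  ⟨1 + vecMulVec u φ, by rw [det_one_add_vec, h, add_zero]⟩

omit [Fintype ι] in
theorem vt_coe [Fintype ι] (u φ : ι → F) (h : φ ⬝ᵥ u = 0) : (vt u φ h : Matrix ι ι F) = 1 + vecMulVec u φ := rfl

/-- Conjugating a transvection. -/
theorem conj_vt (g : SpecialLinearGroup ι F) {u φ u' φ' : ι → F} (h : φ ⬝ᵥ u = 0) (h' : φ' ⬝ᵥ u' = 0)
    (hu : (g : Matrix ι ι F) *ᵥ u = u') (hφ : φ' ᵥ* (g : Matrix ι ι F) = φ) :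
    g * vt u φ h = vt u' φ' h' * g := by
  refine Subtype.ext ?_
  show g.1 * (1 + vecMulVec u φ) = (1 + vecMulVec u' φ') * g.1
  rw [Matrix.mul_add, Matrix.add_mul, Matrix.mul_vecMulVec, Matrix.vecMulVec_mul, hu, hφ, Matrix.mul_one,
    Matrix.one_mul]

end move

theorem tx_eq_vt {l : ℕ} (b : Fin l → F) :
    tx b = vt (Pi.single 0 1) (Fin.cons 0 b) (by simp) := by
  refine Subtype.ext ?_
  rw [tx_coe, vt_coe]
  ext i j
  induction i using Fin.cases <;> induction j using Fin.cases <;>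
    simp [blkM_00, blkM_0s, blkM_s0, blkM_ss, Matrix.one_apply, vecMulVec_apply, Fin.succ_ne_zero,
      (Fin.succ_ne_zero _).symm]

/-- All non-trivial transvections are conjugate when `l ≥ 2`. -/
theorem isConj_vt {ι : Type*} [Fintype ι] [DecidableEq ι] (h3 : 3 ≤ Fintype.card ι) {u φ u' φ' : ι → F}
    (h : φ ⬝ᵥ u = 0) (h' : φ' ⬝ᵥ u' = 0) (hu : u ≠ 0) (hφ : φ ≠ 0) (hu' : u' ≠ 0) (hφ' : φ' ≠ 0) :
    IsConj (vt u φ h) (vt u' φ' h') := by
  obtain ⟨g, hg, hg'⟩ := exists_sl_pairMap h3 hu hu' hφ' hφ (by rw [h, h'])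
  exact isConj_iff.2 ⟨g, mul_inv_eq_of_eq_mul (conj_vt g h h' hg hg')⟩

/-- A normal subgroup containing the radical contains every transvection. -/
theorem vt_mem_of_tx {l : ℕ} (hl : 1 ≤ l) (K : Subgroup (SpecialLinearGroup (Fin (l + 1)) F)) [K.Normal]
    (hK : ∀ b, tx b ∈ K) {u φ : Fin (l + 1) → F} (h : φ ⬝ᵥ u = 0) : vt u φ h ∈ K := by
  rcases eq_or_ne u 0 with rfl | hu
  · have : vt 0 φ h = 1 := Subtype.ext (by simp [vt_coe])
    rw [this]; exact K.one_mem
  obtain ⟨g, hg⟩ := exists_sl_vec (by simp; omega) (v := (Pi.single 0 1 : Fin (l + 1) → F)) (by simp) hu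
  set φ0 := φ ᵥ* (g : Matrix (Fin (l + 1)) (Fin (l + 1)) F) with hφ0
  have h0 : φ0 0 = 0 := by
    have : φ0 ⬝ᵥ Pi.single 0 1 = 0 := by rw [hφ0, ← dotProduct_mulVec, hg, h]
    simpa using this
  have e : tx (Fin.tail φ0) = vt (Pi.single 0 1) φ0 (by simp [h0]) := by
    rw [tx_eq_vt]
    congr 1
    funext i
    induction i using Fin.cases <;> simp [h0, Fin.tail]
  have hc := conj_vt g (show φ0 ⬝ᵥ Pi.single 0 1 = 0 by simp [h0]) h hg rfl
  rw [← e] at hc
  rw [← mul_inv_eq_of_eq_mul hc]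
  exact Subgroup.Normal.conj_mem inferInstance _ (hK _) g

/-- Transvections generate `SL`. -/
theorem eq_top_of_vt {n : ℕ} (hn : 2 ≤ n) (K : Subgroup (SpecialLinearGroup (Fin n) F))
    (hK : ∀ (u φ : Fin n → F) (h : φ ⬝ᵥ u = 0), vt u φ h ∈ K) : K = ⊤ := by
  have htr : ∀ (i j : Fin n) (hij : i ≠ j) (a : F), SpecialLinearGroup.transvection hij a ∈ K := by
    intro i j hij a
    have e : SpecialLinearGroup.transvection hij a = vt (Pi.single i a) (Pi.single j 1) (by simp [hij.symm]) := by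
      refine Subtype.ext ?_
      rw [vt_coe]
      show Matrix.transvection i j a = _
      rw [Matrix.transvection]
      congr 1
      ext r s
      simp [vecMulVec_apply, Matrix.single_apply, Pi.single_apply]
      aesop
    rw [e]; exact hK _ _ _
  haveI : Nontrivial (Fin n) := Fin.nontrivial_iff_two_le.mpr hn
  rw [eq_top_iff]
  intro M _
  refine SpecialLinearGroup.diagonal_transvection_induction' (fun A => A ∈ K) M
    (fun i j hij c hc => ?_) htr (fun A B => mul_mem)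
  rw [CfsgLib.SLPerfect.diag2n_eq hij hc]
  exact mul_mem (mul_mem (mul_mem (mul_mem (htr _ _ _ _) (htr _ _ _ _)) (htr _ _ _ _)) (htr _ _ _ _))
    (htr _ _ _ _)

end CfsgLib.SLMin
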