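import Mathlib
import Cfsg.Agent.Lib.SLMin.Basic
import Cfsg.Agent.Lib.CharTheory.TorusSplit

/-! A representation with a fixed vector for the stabiliser of a point, and no fixed vectors, is large. -/

set_option autoImplicit false
set_option maxHeartbeats 800000

namespace CfsgLib.SLMin

open Matrix CfsgLib.RadicalBound
open scoped LinearAlgebra.Projectivization

variable {F : Type*} [Field F] [Fintype F] [DecidableEq F]

/-- No non-zero fixed vectors. -/
def NoFix {G W : Type*} [Group G] [AddCommGroup W] [Module ℂ W] (ρ : Representation ℂ G W) : Prop :=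
  ∀ w, (∀ g, ρ g w = w) → w = 0

/-- The number of points of projective space. -/
def gs (q m : ℕ) : ℕ := ∑ i ∈ Finset.range m, q ^ i

variable {W : Type*} [AddCommGroup W] [Module ℂ W] [FiniteDimensional ℂ W]

/-- The bound from a vector fixed by the stabiliser of a point. -/
theorem stab_bound {n : ℕ} (hn : 3 ≤ n) (ρ : Representation ℂ (SpecialLinearGroup (Fin n) F) W)
    (hfix : NoFix ρ) {w : W} (hw0 : w ≠ 0)
    (hw : ∀ g : SpecialLinearGroup (Fin n) F,
      (g : Matrix (Fin n) (Fin n) F) *ᵥ Pi.single ⟨0, by omega⟩ 1 = Pi.single ⟨0, by omega⟩ 1 → ρ g w = w) :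
    gs (Fintype.card F) n - 1 ≤ Module.finrank ℂ W := by
  classical
  set e0 : Fin n → F := Pi.single ⟨0, by omega⟩ 1 with he0
  have he00 : e0 ≠ 0 := by simp [e0]
  let St : Finset (SpecialLinearGroup (Fin n) F) := Finset.univ.filter fun g : (SpecialLinearGroup (Fin n) F) => (g : Matrix (Fin n) (Fin n) F) *ᵥ e0 = e0
  have hmulv : ∀ (a b : (SpecialLinearGroup (Fin n) F)) (v : Fin n → F), ((a * b : (SpecialLinearGroup (Fin n) F)) : Matrix (Fin n) (Fin n) F) *ᵥ v =
      (a : Matrix (Fin n) (Fin n) F) *ᵥ ((b : Matrix (Fin n) (Fin n) F) *ᵥ v) := fun a b v => by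
    show (a.1 * b.1) *ᵥ v = _
    rw [mulVec_mulVec]
  have hinv : ∀ (a : (SpecialLinearGroup (Fin n) F)) (v : Fin n → F),
      ((a⁻¹ : (SpecialLinearGroup (Fin n) F)) : Matrix (Fin n) (Fin n) F) *ᵥ ((a : Matrix (Fin n) (Fin n) F) *ᵥ v) = v := fun a v => by
    rw [← hmulv, inv_mul_cancel]
    exact one_mulVec v
  -- an invariant functional
  obtain ⟨φ0, hφ0⟩ : ∃ φ0 : W →ₗ[ℂ] ℂ, φ0 w = 1 := by
    let b := Module.finBasis ℂ W
    obtain ⟨i, hi⟩ : ∃ i, b.repr w i ≠ 0 := by
      by_contra hcon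
      push Not at hcon
      exact hw0 (b.repr.map_eq_zero_iff.1 (Finsupp.ext hcon))
    exact ⟨(b.repr w i)⁻¹ • b.coord i, by simp [hi]⟩
  let φ : W →ₗ[ℂ] ℂ := ∑ g ∈ St, φ0 ∘ₗ ρ g
  have hSt1 : (1 : (SpecialLinearGroup (Fin n) F)) ∈ St := by simp [St]
  have hφw : φ w ≠ 0 := by
    have : φ w = (St.card : ℂ) := by
      simp only [φ, LinearMap.sum_apply, LinearMap.comp_apply]
      rw [Finset.sum_congr rfl fun g hg => by rw [hw g (Finset.mem_filter.1 hg).2, hφ0]]
      simp
    rw [this]
    exact Nat.cast_ne_zero.2 (Finset.card_ne_zero_of_mem hSt1)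
  have hφinv : ∀ s ∈ St, ∀ x, φ (ρ s x) = φ x := by
    intro s hs x
    simp only [φ, LinearMap.sum_apply, LinearMap.comp_apply]
    have hs' := (Finset.mem_filter.1 hs).2
    refine Finset.sum_nbij' (fun g => g * s) (fun g => g * s⁻¹) ?_ ?_ (by simp) (by simp) ?_
    · intro g hg
      refine Finset.mem_filter.2 ⟨Finset.mem_univ _, ?_⟩
      rw [hmulv, hs', (Finset.mem_filter.1 hg).2]
    · intro g hg
      refine Finset.mem_filter.2 ⟨Finset.mem_univ _, ?_⟩
      rw [hmulv]
      conv_lhs => rw [← hs', hinv]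
      exact (Finset.mem_filter.1 hg).2
    · intro g _
      rw [map_mul, Module.End.mul_apply]
  have hex : ∀ v : Fin n → F, v ≠ 0 → ∃ g : (SpecialLinearGroup (Fin n) F), (g : Matrix (Fin n) (Fin n) F) *ᵥ e0 = v := fun v hv =>
    exists_sl_vec (by simp; omega) he00 hv
  let gv : (Fin n → F) → (SpecialLinearGroup (Fin n) F) := fun v => if h : v ≠ 0 then (hex v h).choose else 1
  have hgv : ∀ v, v ≠ 0 → (gv v : Matrix (Fin n) (Fin n) F) *ᵥ e0 = v := fun v h => by
    simp only [gv, dif_pos h]; exact (hex v h).choose_spec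
  let P : (Fin n → F) → (Fin n → F) → ℂ := fun u v => φ (ρ ((gv u)⁻¹ * gv v) w)
  have hP : ∀ (a b : (SpecialLinearGroup (Fin n) F)), φ (ρ (a⁻¹ * b) w) =
      P ((a : Matrix (Fin n) (Fin n) F) *ᵥ e0) ((b : Matrix (Fin n) (Fin n) F) *ᵥ e0) := by
    intro a b
    set u := (a : Matrix (Fin n) (Fin n) F) *ᵥ e0 with hu
    set v := (b : Matrix (Fin n) (Fin n) F) *ᵥ e0 with hv
    have hu0 : u ≠ 0 := fun h => he00 (by rw [← hinv a e0, ← hu, h, mulVec_zero])
    have hv0 : v ≠ 0 := fun h => he00 (by rw [← hinv b e0, ← hv, h, mulVec_zero])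
    have hs : (gv u)⁻¹ * a ∈ St := Finset.mem_filter.2 ⟨Finset.mem_univ _, by
      rw [hmulv, ← hu]
      have := hinv (gv u) e0; rw [hgv u hu0] at this; exact this⟩
    have ht : (gv v)⁻¹ * b ∈ St := Finset.mem_filter.2 ⟨Finset.mem_univ _, by
      rw [hmulv, ← hv]
      have := hinv (gv v) e0; rw [hgv v hv0] at this; exact this⟩
    show _ = φ (ρ ((gv u)⁻¹ * gv v) w)
    conv_rhs => rw [← hw _ (Finset.mem_filter.1 ht).2, ← Module.End.mul_apply, ← map_mul]
    conv_lhs => rw [← hφinv _ hs, ← Module.End.mul_apply, ← map_mul]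
    congr 3
    group
  have hPh : ∀ (h : (SpecialLinearGroup (Fin n) F)) u v, u ≠ 0 → v ≠ 0 → P ((h : Matrix (Fin n) (Fin n) F) *ᵥ u)
      ((h : Matrix (Fin n) (Fin n) F) *ᵥ v) = P u v := by
    intro h u v hu hv
    conv_lhs => rw [← hgv u hu, ← hgv v hv, ← hmulv, ← hmulv, ← hP]
    show _ = φ (ρ ((gv u)⁻¹ * gv v) w)
    congr 3
    group
  -- pairs of independent vectors
  set i1 : Fin n := ⟨1, by omega⟩
  set e1 : Fin n → F := Pi.single i1 1 with he1
  have he10 : e1 ≠ 0 := by simp [e1]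
  let β := P e0 e1
  have hβ : ∀ u v, LinearIndependent F ![u, v] → P u v = β := by
    intro u v huv
    obtain ⟨h, h1, h2⟩ := CfsgLib.TorusSplit.exists_sl_pair hn huv
    have h1' : (h : Matrix (Fin n) (Fin n) F) *ᵥ e0 = u := h1
    have h2' : (h : Matrix (Fin n) (Fin n) F) *ᵥ e1 = v := h2
    show P u v = P e0 e1
    rw [← hPh h e0 e1 he00 he10, h1', h2']
  let γ : F → ℂ := fun c => P (c • e0) e0
  have hγ : ∀ (c : F) (v : Fin n → F), c ≠ 0 → v ≠ 0 → P (c • v) v = γ c := by
    intro c v hc hv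
    rw [show γ c = P (c • e0) e0 from rfl, ← hPh (gv v) (c • e0) e0 (smul_ne_zero hc he00) he00,
      mulVec_smul, hgv v hv]
  haveI : Fintype (ℙ F (Fin n → F)) := Fintype.ofFinite _
  by_cases hne : ∃ c : F, c ≠ 0 ∧ γ c ≠ β
  · obtain ⟨c, hc, hcβ⟩ := hne
    let wv : ℙ F (Fin n → F) → W := fun p => ρ (gv p.rep) w
    let fv : ℙ F (Fin n → F) → (W →ₗ[ℂ] ℂ) := fun p => φ ∘ₗ ρ (gv (c • p.rep))⁻¹
    have hval : ∀ p p', fv p (wv p') = if p = p' then γ c else β := by
      intro p p'
      show φ (ρ (gv (c • p.rep))⁻¹ (ρ (gv p'.rep) w)) = _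
      rw [← Module.End.mul_apply, ← map_mul]
      show P (c • p.rep) p'.rep = _
      split_ifs with h
      · subst h; exact hγ c _ hc p.rep_nonzero
      · refine hβ _ _ ?_
        rw [LinearIndependent.pair_iff' (smul_ne_zero hc p.rep_nonzero)]
        intro a ha
        apply h
        rw [← p.mk_rep, ← p'.mk_rep, Projectivization.mk_eq_mk_iff']
        refine ⟨(a * c)⁻¹, ?_⟩
        have hac : a * c ≠ 0 := fun h0 => p'.rep_nonzero (by rw [← ha, smul_smul, h0, zero_smul])
        rw [← ha, smul_smul, smul_smul, mul_assoc, inv_mul_cancel₀ hac, one_smul]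
    obtain ⟨p0⟩ : Nonempty (ℙ F (Fin n → F)) := ⟨Projectivization.mk F e0 he00⟩
    let S := {p : ℙ F (Fin n → F) // p ≠ p0}
    have hli : LinearIndependent ℂ fun p : S => wv p.1 - wv p0 := by
      rw [Fintype.linearIndependent_iff]
      intro cc hcc j
      have hj : ∀ j : S, (γ c - β) * (cc j + ∑ i : S, cc i) = 0 := by
        intro j
        have h := congrArg (fun x => fv j.1 x - fv p0 x) hcc
        simp only [map_sum, map_smul, map_sub, map_zero, sub_zero, hval, smul_eq_mul] at h
        rw [← Finset.sum_sub_distrib] at h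
        rw [← h, mul_add, Finset.mul_sum]
        have : (γ c - β) * cc j = ∑ i : S, if i = j then (γ c - β) * cc i else 0 := by rw [Fintype.sum_eq_single j (fun i hi => if_neg hi), if_pos rfl]
        rw [this, ← Finset.sum_add_distrib]
        refine Finset.sum_congr rfl fun i _ => ?_
        have h1 : ¬ p0 = i.1 := fun e => i.2 e.symm
        have h2 : ¬ j.1 = p0 := j.2
        rcases eq_or_ne i j with rfl | hij
        · simp [h1, h2]; ring
        · have h3 : ¬ j.1 = i.1 := fun e => hij (Subtype.ext e.symm)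
          simp [h1, h2, h3, hij]; ring
      have hall : ∀ j : S, cc j = -∑ i : S, cc i := fun j =>
        eq_neg_of_add_eq_zero_left ((mul_eq_zero.1 (hj j)).resolve_left (sub_ne_zero.2 hcβ))
      have hsum : ∑ i : S, cc i = 0 := by
        have h := Finset.sum_congr rfl (fun i (_ : i ∈ (Finset.univ : Finset S)) => hall i)
        rw [Finset.sum_const, nsmul_eq_mul] at h
        have h' : ((Finset.univ : Finset S).card + 1 : ℂ) * ∑ i : S, cc i = 0 := by linear_combination h
        refine (mul_eq_zero.1 h').resolve_left ?_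
        exact Nat.cast_add_one_ne_zero _
      rw [hall j, hsum, neg_zero]
    have hle := hli.fintype_card_le_finrank
    refine le_trans (le_of_eq ?_) hle
    rw [Fintype.card_subtype_compl, Fintype.card_subtype_eq, ← Nat.card_eq_fintype_card (α := ℙ F (Fin n → F)),
      Projectivization.card_of_finrank F (Fin n → F) (n := n) (by simp), Nat.card_eq_fintype_card]
    rfl
  · push Not at hne
    exfalso
    have hcol : ∀ v, v ≠ 0 → P e0 v = β := by
      intro v hv
      by_cases hi : LinearIndependent F ![e0, v]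
      · exact hβ _ _ hi
      · rw [LinearIndependent.pair_iff' he00] at hi
        push Not at hi
        obtain ⟨a, rfl⟩ := hi
        have ha : a ≠ 0 := fun h => hv (by rw [h, zero_smul])
        have h := hγ _ (a • e0) (inv_ne_zero ha) (smul_ne_zero ha he00)
        rw [inv_smul_smul₀ ha] at h
        rw [h, hne _ (inv_ne_zero ha)]
    have hzero : ∑ v ∈ Finset.univ.erase (0 : Fin n → F), ρ (gv v) w = 0 := by
      apply hfix
      intro h
      rw [map_sum]
      refine Finset.sum_nbij' (fun v => (h : Matrix (Fin n) (Fin n) F) *ᵥ v)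
        (fun v => ((h⁻¹ : (SpecialLinearGroup (Fin n) F)) : Matrix (Fin n) (Fin n) F) *ᵥ v) ?_ ?_ ?_ ?_ ?_
      · intro v hv
        refine Finset.mem_erase.2 ⟨fun e => Finset.ne_of_mem_erase hv ?_, Finset.mem_univ _⟩
        rw [← hinv h v, e, mulVec_zero]
      · intro v hv
        refine Finset.mem_erase.2 ⟨fun e => Finset.ne_of_mem_erase hv ?_, Finset.mem_univ _⟩
        have := hinv h⁻¹ v
        rw [e, mulVec_zero] at this
        exact this.symm
      · intro v _; exact hinv h v
      · intro v _; rw [← hmulv, mul_inv_cancel]; exact one_mulVec v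
      · intro v hv
        have hv0 := Finset.ne_of_mem_erase hv
        set v' := (h : Matrix (Fin n) (Fin n) F) *ᵥ v with hv'
        have hv'0 : v' ≠ 0 := fun e => hv0 (by rw [← hinv h v, ← hv', e, mulVec_zero])
        have hs : ((gv v')⁻¹ * (h * gv v) : (SpecialLinearGroup (Fin n) F)).1 *ᵥ e0 = e0 := by
          rw [hmulv, hmulv, hgv v hv0, ← hv']
          have := hinv (gv v') e0; rw [hgv v' hv'0] at this; exact this
        show ρ h (ρ (gv v) w) = ρ (gv v') w
        conv_rhs => rw [← hw _ hs, ← Module.End.mul_apply, ← map_mul, mul_inv_cancel_left]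
        rw [← Module.End.mul_apply, ← map_mul]
    have h1 := congrArg (fun x => φ (ρ (gv e0)⁻¹ x)) hzero
    simp only [map_sum, map_zero] at h1
    simp only [← Module.End.mul_apply, ← map_mul] at h1
    have h1' : ∑ v ∈ Finset.univ.erase (0 : Fin n → F), P e0 v = 0 := h1
    rw [Finset.sum_congr rfl fun v hv => hcol v (Finset.ne_of_mem_erase hv),
      Finset.sum_const, nsmul_eq_mul] at h1'
    have hcard : ((Finset.univ.erase (0 : Fin n → F)).card : ℂ) ≠ 0 :=
      Nat.cast_ne_zero.2 (Finset.card_ne_zero_of_mem (Finset.mem_erase.2 ⟨he00, Finset.mem_univ _⟩))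
    have hβ0 : β = 0 := (mul_eq_zero.1 h1').resolve_left hcard
    apply hφw
    have := hcol e0 he00
    rw [hβ0] at this
    simpa [P] using this

end CfsgLib.SLMin
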