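import Mathlib
import Cfsg.Agent.Lib.SLMin.Perm
import Cfsg.Agent.Lib.CharTheory.Integral

/-! The radical of the point parabolic acting in a representation of `SL_{l+1}(q)`. -/

set_option autoImplicit false
set_option maxHeartbeats 800000

namespace CfsgLib.SLMin

open Matrix CfsgLib.RadicalBound

variable {F : Type*} [Field F] [Fintype F] [DecidableEq F] {l : ℕ}

/-- The fixed additive character. -/
noncomputable abbrev ψ : AddChar F ℂ := AddChar.FiniteField.primitiveChar_to_Complex F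

/-- The character of the radical attached to a vector. -/
noncomputable def chv (a : Fin l → F) : AddChar (Fin l → F) ℂ where
  toFun b := ψ (b ⬝ᵥ a)
  map_zero_eq_one' := by simp
  map_add_eq_mul' b b' := by rw [add_dotProduct, AddChar.map_add_eq_mul]

theorem chv_apply (a b : Fin l → F) : chv a b = ψ (b ⬝ᵥ a) := rfl

theorem chv_inj : Function.Injective (chv (F := F) (l := l)) := by
  intro a a' h
  funext i
  by_contra hne
  obtain ⟨t, ht⟩ := AddChar.ne_one_iff.1
    (AddChar.FiniteField.primitiveChar_to_Complex_isPrimitive F (sub_ne_zero.2 hne))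
  apply ht
  have h1 := DFunLike.congr_fun h (Pi.single i t)
  rw [chv_apply, chv_apply, single_dotProduct, single_dotProduct] at h1
  rw [AddChar.mulShift_apply, sub_mul, sub_eq_add_neg, AddChar.map_add_eq_mul, mul_comm (a i), h1, mul_comm t,
    ← AddChar.map_add_eq_mul, add_neg_cancel, AddChar.map_zero_eq_one]

theorem chv_surj : Function.Surjective (chv (F := F) (l := l)) :=
  ((Fintype.bijective_iff_injective_and_card _).2 ⟨chv_inj, by rw [AddChar.card_eq]⟩).2

variable {W : Type*} [AddCommGroup W] [Module ℂ W] [FiniteDimensional ℂ W]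
  (ρ : Representation ℂ (SpecialLinearGroup (Fin (l + 1)) F) W)

/-- The eigenprojections of the radical. -/
noncomputable def pr (a : Fin l → F) : Module.End ℂ W :=
  (Fintype.card (Fin l → F) : ℂ)⁻¹ • ∑ b : Fin l → F, chv a (-b) • ρ (tx b)

omit [FiniteDimensional ℂ W] in
theorem rho_pr (a b : Fin l → F) : ρ (tx b) * pr ρ a = ψ (b ⬝ᵥ a) • pr ρ a := by
  rw [← chv_apply]
  simp only [pr, mul_smul_comm, Finset.mul_sum, Finset.smul_sum, smul_smul]
  refine Fintype.sum_equiv (Equiv.addLeft b) _ _ fun S => ?_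
  show _ = _ • ρ (tx (b + S))
  rw [← map_mul, ← tx_add]
  congr 1
  rw [Equiv.coe_addLeft, neg_add, AddChar.map_add_eq_mul]
  have : chv a b * chv a (-b) = 1 := by rw [← AddChar.map_add_eq_mul, add_neg_cancel, AddChar.map_zero_eq_one]
  linear_combination (-((Fintype.card (Fin l → F) : ℂ)⁻¹ * chv a (-S))) * this

omit [FiniteDimensional ℂ W] in
theorem pr_mul (a a' : Fin l → F) : pr ρ a * pr ρ a' = if a = a' then pr ρ a else 0 := by
  rw [show pr ρ a * pr ρ a' = (Fintype.card (Fin l → F) : ℂ)⁻¹ •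
    ∑ b : Fin l → F, chv a (-b) • (ρ (tx b) * pr ρ a') by
      simp only [pr, smul_mul_assoc, Finset.sum_mul]]
  simp only [rho_pr, smul_smul, ← Finset.sum_smul, ← chv_apply]
  split_ifs with h
  · subst h
    simp only [← AddChar.map_add_eq_mul, neg_add_cancel, AddChar.map_zero_eq_one, Finset.sum_const,
      Finset.card_univ, nsmul_eq_mul, mul_one]
    rw [inv_mul_cancel₀ (Nat.cast_ne_zero.2 Fintype.card_ne_zero), one_smul]
  · have hne : (chv a)⁻¹ * chv a' ≠ 1 := fun e => h (chv_inj (inv_mul_eq_one.1 e))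
    have hz : ∑ b : Fin l → F, chv a (-b) * chv a' b = 0 := by
      rw [← AddChar.sum_eq_zero_of_ne_one hne]
      exact Finset.sum_congr rfl fun b _ => by rw [AddChar.mul_apply, AddChar.inv_apply]
    rw [hz, mul_zero, zero_smul]

omit [FiniteDimensional ℂ W] in
theorem sum_pr : ∑ a : Fin l → F, pr ρ a = 1 := by
  simp only [pr, ← Finset.smul_sum]
  rw [Finset.sum_comm]
  simp only [← Finset.sum_smul]
  rw [Finset.sum_eq_single (0 : Fin l → F) (fun b _ hb => ?_) (by simp)]
  · rw [tx_zero, map_one, neg_zero, smul_smul]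
    simp only [AddChar.map_zero_eq_one, Finset.sum_const, Finset.card_univ, nsmul_eq_mul, mul_one]
    rw [inv_mul_cancel₀ (Nat.cast_ne_zero.2 Fintype.card_ne_zero), one_smul]
  · rw [Fintype.sum_bijective chv ⟨chv_inj, chv_surj⟩ (fun a => chv a (-b)) (fun χ => χ (-b)) (fun _ => rfl),
      AddChar.sum_apply_eq_zero_iff_ne_zero.2 (neg_ne_zero.2 hb), zero_smul]

omit [FiniteDimensional ℂ W] in
theorem rho_tx (b : Fin l → F) : ρ (tx b) = ∑ a : Fin l → F, ψ (b ⬝ᵥ a) • pr ρ a := by
  conv_lhs => rw [← mul_one (ρ (tx b)), ← sum_pr ρ, Finset.mul_sum]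
  exact Finset.sum_congr rfl fun a _ => rho_pr ρ a b

omit [FiniteDimensional ℂ W] in
theorem lev_pr (d : F) (A : Matrix (Fin l) (Fin l) F) (h : d * A.det = 1) {a a' : Fin l → F}
    (ha : A *ᵥ a = d • a') : ρ (lev d A h) * pr ρ a = pr ρ a' * ρ (lev d A h) := by
  have hd : d ≠ 0 := left_ne_zero_of_mul_eq_one h
  have hA : A.det ≠ 0 := right_ne_zero_of_mul_eq_one h
  have hu := isUnit_iff_ne_zero.2 hA
  simp only [pr, mul_smul_comm, smul_mul_assoc, Finset.mul_sum, Finset.sum_mul]
  congr 1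
  refine Fintype.sum_bijective (fun b => (d • b) ᵥ* A⁻¹) ?_ _ _ fun b => ?_
  · refine Finite.injective_iff_bijective.1 fun x y hxy => ?_
    have := congrArg (· ᵥ* A) hxy
    simp only [vecMul_vecMul, nonsing_inv_mul _ hu, vecMul_one] at this
    exact smul_right_injective _ hd this
  · set b' := (d • b) ᵥ* A⁻¹ with hb'
    have hb : b' ᵥ* A = d • b := by rw [hb', vecMul_vecMul, nonsing_inv_mul _ hu, vecMul_one]
    rw [← map_mul, lev_tx d A h b b' hb, map_mul]
    congr 1
    rw [chv_apply, chv_apply, neg_dotProduct, neg_dotProduct]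
    congr 2
    have e := congrArg (fun v => b' ⬝ᵥ v) ha
    simp only [dotProduct_mulVec, hb, smul_dotProduct, dotProduct_smul] at e
    exact smul_right_injective F hd e

/-- The dimension of an eigenspace. -/
noncomputable def dm (a : Fin l → F) : ℕ := Module.finrank ℂ (LinearMap.range (pr ρ a))

theorem trace_pr (a : Fin l → F) : LinearMap.trace ℂ W (pr ρ a) = (dm ρ a : ℂ) := by
  have h : IsIdempotentElem (pr ρ a) := by
    show pr ρ a * pr ρ a = pr ρ a
    rw [pr_mul, if_pos rfl]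
  exact (LinearMap.IsIdempotentElem.isProj_range _ h).trace

theorem dm_conj (d : F) (A : Matrix (Fin l) (Fin l) F) (h : d * A.det = 1) {a a' : Fin l → F}
    (ha : A *ᵥ a = d • a') : dm ρ a = dm ρ a' := by
  have e := lev_pr ρ d A h ha
  apply Nat.cast_injective (R := ℂ)
  rw [← trace_pr, ← trace_pr]
  have hinv : ρ (lev d A h)⁻¹ * ρ (lev d A h) = 1 := by rw [← map_mul, inv_mul_cancel, map_one]
  have hinv' : ρ (lev d A h) * ρ (lev d A h)⁻¹ = 1 := by rw [← map_mul, mul_inv_cancel, map_one]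
  calc LinearMap.trace ℂ W (pr ρ a)
      = LinearMap.trace ℂ W (ρ (lev d A h)⁻¹ * (ρ (lev d A h) * pr ρ a)) := by rw [← mul_assoc, hinv, one_mul]
    _ = LinearMap.trace ℂ W (pr ρ a' * ρ (lev d A h) * ρ (lev d A h)⁻¹) := by
        rw [e, LinearMap.trace_mul_comm]
    _ = _ := by rw [mul_assoc, hinv', mul_one]

theorem finrank_eq_sum : Module.finrank ℂ W = ∑ a : Fin l → F, dm ρ a := by
  apply Nat.cast_injective (R := ℂ)
  rw [Nat.cast_sum, ← LinearMap.trace_one ℂ W, ← sum_pr ρ, map_sum]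
  exact Finset.sum_congr rfl fun a _ => trace_pr ρ a

/-- Transitivity of the Levi factor on the non-trivial characters. -/
def Trans (F : Type*) [Field F] (l : ℕ) : Prop :=
  ∀ a a' : Fin l → F, a ≠ 0 → a' ≠ 0 → ∃ (d : F) (A : Matrix (Fin l) (Fin l) F), d * A.det = 1 ∧ A *ᵥ a = d • a'

omit [Fintype F] [DecidableEq F] in
theorem trans_two (hl : 2 ≤ l) : Trans F l := fun a a' ha ha' => by
  obtain ⟨g, hg⟩ := exists_sl_vec (by simpa using hl) ha ha'
  exact ⟨1, g.1, by rw [one_mul]; exact g.2, by rw [one_smul]; exact hg⟩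

omit [DecidableEq F] in
theorem trans_one (h2 : (2 : F) = 0) : Trans F 1 := fun a a' ha ha' => by
  haveI : CharP F 2 := CharTwo.of_one_ne_zero_of_two_eq_zero one_ne_zero h2
  have h0 : ∀ x : Fin 1 → F, x ≠ 0 → x 0 ≠ 0 := fun x hx h => hx (funext fun i => by
    rw [Subsingleton.elim i 0, h]; rfl)
  obtain ⟨d, hd⟩ := FiniteField.isSquare_of_char_two (ringChar.eq F 2) (a 0 / a' 0)
  have hd0 : d ≠ 0 := fun h => div_ne_zero (h0 a ha) (h0 a' ha') (by rw [hd, h, zero_mul])
  refine ⟨d, Matrix.of fun _ _ => d⁻¹, by simp [det_unique, hd0], funext fun i => ?_⟩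
  rw [Subsingleton.elim i 0]
  have := h0 a' ha'
  simp [mulVec, dotProduct]
  field_simp at hd ⊢
  linear_combination hd

/-- The common dimension of the non-trivial eigenspaces. -/
theorem dm_const (ht : Trans F l) {a a' : Fin l → F} (ha : a ≠ 0) (ha' : a' ≠ 0) : dm ρ a = dm ρ a' := by
  obtain ⟨d, A, h, hA⟩ := ht a a' ha ha'
  exact dm_conj ρ d A h hA

theorem finrank_eq (e : ℕ) (he : ∀ a : Fin l → F, a ≠ 0 → dm ρ a = e) :
    Module.finrank ℂ W = dm ρ 0 + e * (Fintype.card F ^ l - 1) := by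
  rw [finrank_eq_sum ρ, ← Finset.add_sum_erase _ _ (Finset.mem_univ (0 : Fin l → F)),
    Finset.sum_congr rfl fun a ha => he a (Finset.ne_of_mem_erase ha), Finset.sum_const,
    Finset.card_erase_of_mem (Finset.mem_univ _), Finset.card_univ, Fintype.card_fun, Fintype.card_fin,
    smul_eq_mul, mul_comm e]

theorem trace_tx (e : ℕ) (he : ∀ a : Fin l → F, a ≠ 0 → dm ρ a = e) {b : Fin l → F} (hb : b ≠ 0) :
    LinearMap.trace ℂ W (ρ (tx b)) = (dm ρ 0 : ℂ) - e := by
  rw [rho_tx ρ b, map_sum]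
  simp only [map_smul, trace_pr, smul_eq_mul]
  have hs : ∑ a : Fin l → F, ψ (b ⬝ᵥ a) = 0 := by
    have h1 : chv b ≠ 1 := fun h => hb (chv_inj (h.trans (DFunLike.ext _ _ fun x => by simp [chv_apply])))
    rw [← AddChar.sum_eq_zero_of_ne_one h1]
    exact Finset.sum_congr rfl fun a _ => by rw [chv_apply, dotProduct_comm]
  rw [← Finset.add_sum_erase _ _ (Finset.mem_univ (0 : Fin l → F)),
    Finset.sum_congr rfl fun a ha => by rw [he a (Finset.ne_of_mem_erase ha)], ← Finset.sum_mul]
  rw [← Finset.add_sum_erase _ _ (Finset.mem_univ (0 : Fin l → F))] at hs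
  simp only [dotProduct_zero, AddChar.map_zero_eq_one] at hs ⊢
  linear_combination (e : ℂ) * hs

/-- Without fixed vectors, some non-trivial character occurs. -/
theorem dm_pos (hl : 1 ≤ l) (hfix : NoFix ρ) [Nontrivial W] {a : Fin l → F} (ha : a ≠ 0) (ht : Trans F l) :
    1 ≤ dm ρ a := by
  by_contra hcon
  have hz : ∀ a' : Fin l → F, a' ≠ 0 → pr ρ a' = 0 := fun a' ha' => by
    have h0 : dm ρ a' = 0 := by rw [← dm_const ρ ht ha ha']; omega
    exact LinearMap.range_eq_bot.1 (Submodule.finrank_eq_zero.1 h0)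
  have htriv : ∀ b, ρ (tx b) = 1 := fun b => by
    rw [rho_tx ρ b, ← sum_pr ρ]
    refine Finset.sum_congr rfl fun a' _ => ?_
    rcases eq_or_ne a' 0 with rfl | h
    · simp
    · simp [hz a' h]
  let K : Subgroup (SpecialLinearGroup (Fin (l + 1)) F) :=
    { carrier := {g | ρ g = 1}
      mul_mem' := fun {x y} hx hy => by
        show ρ (x * y) = 1
        rw [map_mul, show ρ x = 1 from hx, show ρ y = 1 from hy, one_mul]
      one_mem' := map_one ρ
      inv_mem' := fun {x} hx => by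
        show ρ x⁻¹ = 1
        calc ρ x⁻¹ = ρ x⁻¹ * ρ x := by rw [show ρ x = 1 from hx, mul_one]
          _ = 1 := by rw [← map_mul, inv_mul_cancel, map_one] }
  haveI : K.Normal := ⟨fun x hx g => by
    show ρ (g * x * g⁻¹) = 1
    rw [map_mul, map_mul, show ρ x = 1 from hx, mul_one, ← map_mul, mul_inv_cancel, map_one]⟩
  have htop : K = ⊤ := eq_top_of_vt (by omega) K fun u φ h => vt_mem_of_tx hl K htriv h
  obtain ⟨w, hw⟩ := exists_ne (0 : W)
  refine hw (hfix w fun g => ?_)
  rw [show ρ g = 1 from (htop.symm ▸ Subgroup.mem_top g : g ∈ K)]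
  rfl

/-- The smaller special linear group on the fixed space of the radical. -/
noncomputable def rep0 : Representation ℂ (SpecialLinearGroup (Fin l) F) (LinearMap.range (pr ρ 0)) where
  toFun A := (ρ (emb A)).restrict (p := LinearMap.range (pr ρ 0)) (q := LinearMap.range (pr ρ 0)) (by
    rintro _ ⟨x, rfl⟩
    have e : ρ (emb A) * pr ρ 0 = pr ρ 0 * ρ (emb A) :=
      lev_pr ρ 1 A.1 (by rw [one_mul]; exact A.2) (by simp)
    exact ⟨ρ (emb A) x, (LinearMap.congr_fun e x).symm⟩)
  map_one' := LinearMap.ext fun x => Subtype.ext (by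
    show ρ (emb (1 : SpecialLinearGroup (Fin l) F)) x.1 = x.1
    rw [map_one, map_one]; rfl)
  map_mul' A B := LinearMap.ext fun x => Subtype.ext (by
    show ρ (emb (A * B)) x.1 = ρ (emb A) (ρ (emb B) x.1)
    rw [map_mul, map_mul]; rfl)

theorem finrank_rep0 : Module.finrank ℂ (LinearMap.range (pr ρ 0)) = dm ρ 0 := rfl

/-- Small representations have no fixed vectors of the smaller group on the fixed space. -/
theorem noFix_rep0 (hl : 2 ≤ l) (hfix : NoFix ρ)
    (hk : Module.finrank ℂ W < gs (Fintype.card F) (l + 1) - 1) : NoFix (rep0 ρ) := by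
  intro w hw
  by_contra hne
  have hb : ∀ b, ρ (tx b) w.1 = w.1 := by
    intro b
    obtain ⟨x, hx⟩ := w.2
    rw [← hx, ← Module.End.mul_apply, rho_pr]
    simp
  have := stab_bound (by omega) ρ hfix (fun h => hne (Subtype.ext h)) (w := w.1) fun g hg => by
    obtain ⟨b, A, rfl⟩ := stab_eq hg
    rw [map_mul, Module.End.mul_apply, show ρ (emb A) w.1 = w.1 from congrArg Subtype.val (hw A), hb]
  omega

/-- The root elements of the Levi factor. -/
def yT (hl : 2 ≤ l) (t : F) : SpecialLinearGroup (Fin l) F :=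
  vt (Pi.single ⟨0, by omega⟩ t) (Pi.single ⟨1, by omega⟩ 1) (by simp [Fin.ext_iff])

omit [Fintype F] [DecidableEq F] in
theorem yT_add (hl : 2 ≤ l) (s t : F) : yT hl (s + t) = yT (F := F) hl s * yT hl t := by
  refine Subtype.ext ?_
  show 1 + vecMulVec _ _ = (1 + vecMulVec _ _) * (1 + vecMulVec _ _)
  rw [Matrix.mul_add, Matrix.add_mul, Matrix.add_mul, vecMulVec_mul_vecMulVec, Matrix.mul_one, Matrix.one_mul]
  simp [Fin.ext_iff, Pi.single_add, add_vecMulVec, add_assoc]

omit [Fintype F] [DecidableEq F] in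
theorem emb_vt (u φ : Fin l → F) (h : φ ⬝ᵥ u = 0) :
    emb (vt u φ h) = vt (Fin.cons 0 u) (Fin.cons 0 φ) (by simpa [dotProduct, Fin.sum_univ_succ] using h) := by
  refine Subtype.ext ?_
  rw [emb_coe, vt_coe, vt_coe]
  ext i j
  induction i using Fin.cases <;> induction j using Fin.cases <;>
    simp [blkM_00, blkM_0s, blkM_s0, blkM_ss, Matrix.one_apply, vecMulVec_apply, Fin.succ_ne_zero,
      (Fin.succ_ne_zero _).symm]

omit [Fintype F] [DecidableEq F] in
theorem isConj_y (hl : 2 ≤ l) {b : Fin l → F} (hb : b ≠ 0) {t : F} (ht : t ≠ 0) :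
    IsConj (tx b) (emb (yT hl t)) := by
  rw [tx_eq_vt, yT, emb_vt]
  refine isConj_vt (by simp; omega) _ _ (by simp) (fun h => hb (funext fun i => ?_)) (fun h => ?_) (fun h => ?_)
  · simpa using congrFun h i.succ
  · have := congrFun h (Fin.succ ⟨0, by omega⟩)
    rw [Fin.cons_succ] at this
    simp [ht] at this
  · have := congrFun h (Fin.succ ⟨1, by omega⟩)
    rw [Fin.cons_succ] at this
    simp at this

omit [Fintype F] [DecidableEq F] in
theorem yT_mulVec (hl : 2 ≤ l) (t : F) (a : Fin l → F) :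
    (yT hl t : Matrix (Fin l) (Fin l) F) *ᵥ a = a + Pi.single ⟨0, by omega⟩ (a ⟨1, by omega⟩ * t) := by
  rw [yT, vt_coe, add_mulVec, one_mulVec, vecMulVec_mulVec, op_smul_eq_smul, single_dotProduct, one_mul,
    ← Pi.single_smul, smul_eq_mul]

/-- The value of the fixed space at the root elements, given that the fixed characters contribute trivially. -/
theorem trace_rep0 (hl : 2 ≤ l) (he : ∀ a : Fin l → F, a ≠ 0 → dm ρ a = 1)
    (hlam : ∀ a : Fin l → F, a ≠ 0 → a ⟨1, by omega⟩ = 0 → ∀ t,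
      LinearMap.trace ℂ W (ρ (emb (yT hl t)) * pr ρ a) = 1) {t : F} (ht : t ≠ 0) :
    LinearMap.trace ℂ W (ρ (emb (yT hl t)) * pr ρ 0) = (dm ρ 0 : ℂ) - (Fintype.card F : ℂ) ^ (l - 1) := by
  classical
  set i1 : Fin l := ⟨1, by omega⟩
  set y := emb (yT hl t)
  let b1 : Fin l → F := Pi.single i1 1
  have hb1 : b1 ≠ 0 := by simp [b1]
  have htr : LinearMap.trace ℂ W (ρ y) = (dm ρ 0 : ℂ) - 1 := by
    obtain ⟨g, hg⟩ := isConj_iff.1 (isConj_y hl hb1 ht)
    have : LinearMap.trace ℂ W (ρ y) = LinearMap.trace ℂ W (ρ (tx b1)) := by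
      show ρ.character y = ρ.character (tx b1)
      rw [show y = g * tx b1 * g⁻¹ from hg.symm, ρ.char_conj]
    rw [this, trace_tx ρ 1 he hb1, Nat.cast_one]
  have hsum : LinearMap.trace ℂ W (ρ y) = ∑ a : Fin l → F, LinearMap.trace ℂ W (ρ y * pr ρ a) := by
    rw [← map_sum, ← Finset.mul_sum, sum_pr, mul_one]
  have hmove : ∀ a : Fin l → F, a i1 ≠ 0 → LinearMap.trace ℂ W (ρ y * pr ρ a) = 0 := by
    intro a ha
    set a' := (yT hl t : Matrix (Fin l) (Fin l) F) *ᵥ a with ha'
    have e : ρ y * pr ρ a = pr ρ a' * ρ y :=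
      lev_pr ρ 1 (yT hl t).1 (by rw [one_mul]; exact (yT hl t).2) (by rw [one_smul])
    have hne : a ≠ a' := fun h => by
      have := congrFun h ⟨0, by omega⟩
      rw [ha', yT_mulVec] at this
      simp at this
      rcases this with h | h
      · exact ha h
      · exact ht h
    calc LinearMap.trace ℂ W (ρ y * pr ρ a) = LinearMap.trace ℂ W (ρ y * pr ρ a * pr ρ a) := by
          rw [mul_assoc, pr_mul, if_pos rfl]
      _ = LinearMap.trace ℂ W (pr ρ a * (ρ y * pr ρ a)) := LinearMap.trace_mul_comm ℂ _ _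
      _ = 0 := by rw [e, ← mul_assoc, pr_mul, if_neg hne, zero_mul, map_zero]
  rw [← Finset.add_sum_erase _ _ (Finset.mem_univ (0 : Fin l → F)),
    ← Finset.sum_filter_add_sum_filter_not (Finset.univ.erase (0 : Fin l → F)) (fun a => a i1 = 0),
    Finset.sum_congr rfl (fun a ha => hlam a (Finset.ne_of_mem_erase (Finset.mem_filter.1 ha).1)
      (Finset.mem_filter.1 ha).2 t),
    Finset.sum_eq_zero (fun a ha => hmove a (Finset.mem_filter.1 ha).2), add_zero, Finset.sum_const, nsmul_eq_mul,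
    mul_one] at hsum
  have hcount : (Finset.univ.filter fun a : Fin l → F => a i1 = 0).card = Fintype.card F ^ (l - 1) := by
    rw [show (Finset.univ.filter fun a : Fin l → F => a i1 = 0) =
      Fintype.piFinset (fun i => if i = i1 then ({0} : Finset F) else Finset.univ) by
        ext a
        simp only [Finset.mem_filter, Finset.mem_univ, true_and, Fintype.mem_piFinset]
        constructor
        · intro h i
          split_ifs with hi
          · subst hi; simp [h]
          · simp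
        · intro h
          simpa using h i1]
    rw [Fintype.card_piFinset, ← Finset.mul_prod_erase _ _ (Finset.mem_univ i1), if_pos rfl,
      Finset.card_singleton, one_mul,
      Finset.prod_congr rfl (fun i hi => by rw [if_neg (Finset.ne_of_mem_erase hi), Finset.card_univ]),
      Finset.prod_const, Finset.card_erase_of_mem (Finset.mem_univ _), Finset.card_univ, Fintype.card_fin]
  rw [Finset.filter_erase, Finset.card_erase_of_mem (by simp), hcount,
    Nat.cast_sub (Nat.one_le_pow _ _ Fintype.card_pos), htr] at hsum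
  push_cast at hsum
  linear_combination -hsum

/-- The fixed space is not too small. -/
theorem rep0_lower (hl : 2 ≤ l) (he : ∀ a : Fin l → F, a ≠ 0 → dm ρ a = 1)
    (hlam : ∀ a : Fin l → F, a ≠ 0 → a ⟨1, by omega⟩ = 0 → ∀ t,
      LinearMap.trace ℂ W (ρ (emb (yT hl t)) * pr ρ a) = 1) :
    (Fintype.card F - 1) * Fintype.card F ^ (l - 1) ≤ Fintype.card F * dm ρ 0 := by
  classical
  set y : F → Module.End ℂ W := fun t => ρ (emb (yT hl t)) * pr ρ 0 with hy
  have hcomm : ∀ t, ρ (emb (yT hl t)) * pr ρ 0 = pr ρ 0 * ρ (emb (yT hl t)) := fun t =>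
    lev_pr ρ 1 (yT hl t).1 (by rw [one_mul]; exact (yT hl t).2) (by simp)
  have hmul : ∀ s t, y s * y t = y (s + t) := fun s t => by
    simp only [y]
    rw [← mul_assoc, mul_assoc (ρ (emb (yT hl s))), ← hcomm, ← mul_assoc, mul_assoc, pr_mul, if_pos rfl,
      ← map_mul, ← map_mul, ← yT_add]
  set R : Module.End ℂ W := (Fintype.card F : ℂ)⁻¹ • ∑ t, y t with hR
  have hRy : ∀ s, y s * ∑ t, y t = ∑ t, y t := fun s => by
    rw [Finset.mul_sum]
    exact Fintype.sum_equiv (Equiv.addLeft s) _ _ fun t => hmul s t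
  have hR2 : IsIdempotentElem R := by
    show R * R = R
    simp only [R, smul_mul_assoc, mul_smul_comm, Finset.sum_mul, hRy, Finset.sum_const, Finset.card_univ]
    rw [← Nat.cast_smul_eq_nsmul ℂ, smul_smul, smul_smul, mul_assoc,
      inv_mul_cancel₀ (Nat.cast_ne_zero.2 Fintype.card_ne_zero), mul_one]
  set N := Module.finrank ℂ (LinearMap.range R)
  have htrR : LinearMap.trace ℂ W R = (N : ℂ) := (LinearMap.IsIdempotentElem.isProj_range _ hR2).trace
  simp only [R, map_smul, map_sum, y, smul_eq_mul] at htrR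
  rw [← Finset.add_sum_erase _ _ (Finset.mem_univ (0 : F)),
    Finset.sum_congr rfl fun t ht => trace_rep0 ρ hl he hlam (Finset.ne_of_mem_erase ht)] at htrR
  have h0 : yT (F := F) hl 0 = 1 := by
    refine Subtype.ext ?_
    show 1 + vecMulVec _ _ = 1
    simp
  rw [h0, map_one, map_one, one_mul, trace_pr, Finset.sum_const, Finset.card_erase_of_mem (Finset.mem_univ _),
    Finset.card_univ, nsmul_eq_mul, Nat.cast_sub Fintype.card_pos, inv_mul_eq_iff_eq_mul₀
      (Nat.cast_ne_zero.2 Fintype.card_ne_zero)] at htrR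
  push_cast at htrR
  have key : Fintype.card F * dm ρ 0 = Fintype.card F * N + (Fintype.card F - 1) * Fintype.card F ^ (l - 1) := by
    apply Nat.cast_injective (R := ℂ)
    push_cast [Nat.cast_sub (Fintype.card_pos (α := F))]
    linear_combination htrR
  omega

theorem rep0_ne_zero (hl : 2 ≤ l) (he : ∀ a : Fin l → F, a ≠ 0 → dm ρ a = 1)
    (hlam : ∀ a : Fin l → F, a ≠ 0 → a ⟨1, by omega⟩ = 0 → ∀ t,
      LinearMap.trace ℂ W (ρ (emb (yT hl t)) * pr ρ a) = 1) : 0 < dm ρ 0 := by
  have h := rep0_lower ρ hl he hlam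
  have h1 : 1 < Fintype.card F := Fintype.one_lt_card
  have h2 : 0 < (Fintype.card F - 1) * Fintype.card F ^ (l - 1) :=
    Nat.mul_pos (by omega) (pow_pos (by omega) _)
  exact Nat.pos_of_ne_zero fun h0 => by rw [h0, mul_zero] at h; omega

/-- The fixed characters contribute trivially. -/
theorem lam_trivial (hl : 2 ≤ l) (hok : (l = 2 ∧ ∃ d : F, d ≠ 0 ∧ d ^ 3 ≠ 1) ∨ (l = 3 ∧ ∃ s : F, s ≠ 0 ∧ s * s ≠ 1)
      ∨ 4 ≤ l) (he : ∀ a : Fin l → F, a ≠ 0 → dm ρ a = 1) {a : Fin l → F} (ha : a ≠ 0)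
    (ha1 : a ⟨1, by omega⟩ = 0) (t : F) : LinearMap.trace ℂ W (ρ (emb (yT hl t)) * pr ρ a) = 1 := by
  classical
  have htrP : LinearMap.trace ℂ W (pr ρ a) = 1 := by rw [trace_pr, he a ha, Nat.cast_one]
  obtain ⟨v, -, hv⟩ := finrank_eq_one_iff'.1 (he a ha)
  let C : SpecialLinearGroup (Fin (l + 1)) F → Prop := fun g => ρ g * pr ρ a = pr ρ a * ρ g
  set c : SpecialLinearGroup (Fin (l + 1)) F → ℂ := fun g => LinearMap.trace ℂ W (ρ g * pr ρ a) with hc
  have hscal : ∀ g, C g → ρ g * pr ρ a = c g • pr ρ a := by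
    intro g hg
    obtain ⟨r, hr⟩ : ∃ r : ℂ, ρ g * pr ρ a = r • pr ρ a := by
      have hmem : ρ g v.1 ∈ LinearMap.range (pr ρ a) := by
        obtain ⟨x, hx⟩ := v.2
        refine ⟨ρ g x, ?_⟩
        rw [← hx, ← Module.End.mul_apply, ← hg]; rfl
      obtain ⟨r, hr⟩ := hv ⟨_, hmem⟩
      refine ⟨r, LinearMap.ext fun x => ?_⟩
      obtain ⟨s, hs⟩ := hv ⟨pr ρ a x, x, rfl⟩
      have hs' : pr ρ a x = s • v.1 := (congrArg Subtype.val hs).symm
      have hr' : ρ g v.1 = r • v.1 := (congrArg Subtype.val hr).symm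
      rw [Module.End.mul_apply, LinearMap.smul_apply, hs', map_smul, hr', smul_comm]
    have : c g = r := by rw [hc]; simp only; rw [hr, map_smul, htrP, smul_eq_mul, mul_one]
    rw [this, hr]
  have hCmul : ∀ g h, C g → C h → C (g * h) := fun g h hg hh => by
    show ρ (g * h) * _ = _ * ρ (g * h)
    rw [map_mul, mul_assoc, hh, ← mul_assoc, hg, mul_assoc]
  have hcmul : ∀ g h, C g → C h → c (g * h) = c g * c h := fun g h hg hh => by
    show LinearMap.trace ℂ W (ρ (g * h) * pr ρ a) = _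
    rw [map_mul ρ, mul_assoc, hscal h hh, mul_smul_comm, hscal g hg, smul_smul, map_smul, htrP, smul_eq_mul, mul_one,
      mul_comm]
  have hc1 : c 1 = 1 := by show LinearMap.trace ℂ W (ρ 1 * pr ρ a) = 1; rw [map_one, one_mul, htrP]
  have hCinv : ∀ g, C g → C g⁻¹ := fun g hg => by
    show ρ g⁻¹ * _ = _ * ρ g⁻¹
    calc ρ g⁻¹ * pr ρ a = ρ g⁻¹ * (pr ρ a * ρ g) * ρ g⁻¹ := by
          rw [mul_assoc, mul_assoc, ← map_mul, mul_inv_cancel, map_one, mul_one]
      _ = _ := by rw [← hg, ← mul_assoc, ← map_mul, inv_mul_cancel, map_one, one_mul]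
  have hcne : ∀ g, C g → c g ≠ 0 := fun g hg h => by
    have := hcmul g g⁻¹ hg (hCinv g hg)
    rw [mul_inv_cancel, hc1, h, zero_mul] at this
    exact one_ne_zero this
  set i0 : Fin l := ⟨0, by omega⟩ with hi0
  set i1 : Fin l := ⟨1, by omega⟩ with hi1
  have hemb : ∀ T : SpecialLinearGroup (Fin l) F, T.1 *ᵥ a = a → C (emb T) := fun T hT =>
    lev_pr ρ 1 T.1 (by rw [one_mul]; exact T.2) (by rw [one_smul]; exact hT)
  have hy : ∀ s, C (emb (yT hl s)) := fun s => hemb _ (by rw [yT_mulVec, ha1]; simp)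
  have hscale : ∀ g : SpecialLinearGroup (Fin (l + 1)) F, C g → ∀ s : F, s ≠ 1 →
      (∀ x, g * emb (yT hl x) = emb (yT hl (s * x)) * g) → c (emb (yT hl t)) = 1 := by
    intro g hg s hs hgy
    set x := t / (s - 1) with hx
    have h := congrArg c (hgy x)
    rw [hcmul _ _ hg (hy x), hcmul _ _ (hy _) hg, mul_comm] at h
    have h' := mul_right_cancel₀ (hcne g hg) h
    rw [show s * x = t + x by rw [hx]; field_simp [sub_ne_zero.2 hs]; ring, yT_add, map_mul,
      hcmul _ _ (hy _) (hy _)] at h'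
    exact mul_right_cancel₀ (hcne _ (hy x)) (by rw [one_mul]; exact h'.symm)
  have hcomm : ∀ (η w : Fin l → F) (hη : η i0 = 0), w i1 = 0 → η ⬝ᵥ w = 1 → η ⬝ᵥ a = 0 →
      c (emb (yT hl t)) = 1 := by
    intro η w hη hw1 hηw hηa
    have hXd : η ⬝ᵥ Pi.single i0 t = 0 := by simp [hη]
    have hYd : (Pi.single i1 1 : Fin l → F) ⬝ᵥ w = 0 := by simp [hw1]
    set X := vt (Pi.single i0 t) η hXd with hX
    set Y := vt w (Pi.single i1 1) hYd with hY
    have hCX : C (emb X) := hemb _ (by
      rw [hX, vt_coe, add_mulVec, one_mulVec, vecMulVec_mulVec, hηa]; simp)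
    have hCY : C (emb Y) := hemb _ (by
      rw [hY, vt_coe, add_mulVec, one_mulVec, vecMulVec_mulVec, single_dotProduct, ha1]; simp)
    have e : X * Y = yT hl t * (Y * X) := by
      refine Subtype.ext ?_
      have hu : (Pi.single i1 1 : Fin l → F) ⬝ᵥ Pi.single i0 t = 0 := by simp [i0, i1, Fin.ext_iff]
      show (1 + vecMulVec (Pi.single i0 t) η) * (1 + vecMulVec w (Pi.single i1 1)) =
        (1 + vecMulVec (Pi.single i0 t) (Pi.single i1 1)) *
          ((1 + vecMulVec w (Pi.single i1 1)) * (1 + vecMulVec (Pi.single i0 t) η))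
      simp only [Matrix.mul_add, Matrix.add_mul, vecMulVec_mul_vecMulVec, Matrix.mul_one, Matrix.one_mul, hηw, hu,
        hYd, one_smul, zero_smul, vecMulVec_zero, zero_vecMulVec, Matrix.mul_zero, add_zero, zero_add]
      abel
    have h := congrArg (fun T => c (emb T)) e
    simp only [map_mul] at h
    rw [hcmul _ _ hCX hCY, hcmul _ _ (hy t) (hCmul _ _ hCY hCX), hcmul _ _ hCY hCX] at h
    exact mul_right_cancel₀ (mul_ne_zero (hcne _ hCY) (hcne _ hCX)) (by rw [one_mul]; linear_combination -h)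
  show c (emb (yT hl t)) = 1
  rcases hok with ⟨rfl, d, hd, hd3⟩ | ⟨rfl, s, hs, hs2⟩ | hl4
  · let A : Matrix (Fin 2) (Fin 2) F := !![d, 0; 0, (d * d)⁻¹]
    have hdet : d * A.det = 1 := by simp [A, det_fin_two]; field_simp
    have hAa : A *ᵥ a = d • a := by
      funext i
      fin_cases i
      · simp [A, mulVec, dotProduct, Fin.sum_univ_two]
      · have : a 1 = 0 := ha1
        simp [A, mulVec, dotProduct, Fin.sum_univ_two, this]
    refine hscale (lev d A hdet) (lev_pr ρ d A hdet hAa) (d * d * d) (by rwa [pow_three, ← mul_assoc] at hd3)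
      fun x => Subtype.ext ?_
    show blkM d 0 A * blkM 1 0 (yT hl x).1 = blkM 1 0 (yT hl (d * d * d * x)).1 * blkM d 0 A
    rw [blkM_mul, blkM_mul]
    congr 1
    · rw [mul_one, one_mul]
    · simp
    · ext i j
      fin_cases i <;> fin_cases j <;> simp [A, yT, vt_coe, Matrix.mul_apply, Fin.sum_univ_two, vecMulVec_apply]
      field_simp
  · by_cases h2 : a ⟨2, by omega⟩ = 0
    · exact hcomm (Pi.single ⟨2, by omega⟩ 1) (Pi.single ⟨2, by omega⟩ 1) (by simp [i0, Fin.ext_iff])
        (by simp [i1, Fin.ext_iff]) (by simp) (by simpa using h2)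
    · let D : Matrix (Fin 3) (Fin 3) F := !![s, 0, a 0 * (1 - s) / a 2; 0, s⁻¹, 0; 0, 0, 1]
      have hdet : D.det = 1 := by simp [D, det_fin_three, hs]
      have h2' : a 2 ≠ 0 := h2
      have h1' : a 1 = 0 := ha1
      have hDa : D *ᵥ a = a := by
        funext i
        fin_cases i <;> simp [D, mulVec, dotProduct, Fin.sum_univ_three, h1']
        field_simp
        ring
      let DS : SpecialLinearGroup (Fin 3) F := ⟨D, hdet⟩
      refine hscale (emb DS) (hemb DS hDa) (s * s) hs2 fun x => ?_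
      rw [← map_mul, ← map_mul]
      congr 1
      refine Subtype.ext ?_
      show D * (yT hl x).1 = (yT hl (s * s * x)).1 * D
      ext i j
      fin_cases i <;> fin_cases j <;> simp [D, yT, vt_coe, Matrix.mul_apply, Fin.sum_univ_three, vecMulVec_apply]
      field_simp
  · by_cases h2 : a ⟨2, by omega⟩ = 0
    · exact hcomm (Pi.single ⟨2, by omega⟩ 1) (Pi.single ⟨2, by omega⟩ 1) (by simp [i0, Fin.ext_iff])
        (by simp [i1, Fin.ext_iff]) (by simp) (by simpa using h2)
    · refine hcomm (Pi.single ⟨2, by omega⟩ (a ⟨3, by omega⟩) - Pi.single ⟨3, by omega⟩ (a ⟨2, by omega⟩))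
        (Pi.single ⟨3, by omega⟩ (-(a ⟨2, by omega⟩)⁻¹)) (by simp [i0, Fin.ext_iff]) (by simp [i1, Fin.ext_iff])
        (by simp [sub_dotProduct, Fin.ext_iff, h2]) (by rw [sub_dotProduct, single_dotProduct, single_dotProduct]; ring)

omit [FiniteDimensional ℂ W] in
/-- The size of the class of transvections. -/
theorem class_card (hl : 2 ≤ l) {b : Fin l → F} (hb : b ≠ 0) :
    Nat.card {x : SpecialLinearGroup (Fin (l + 1)) F // IsConj (tx b) x} * (Fintype.card F - 1) =
      (Fintype.card F ^ (l + 1) - 1) * (Fintype.card F ^ l - 1) := by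
  classical
  set q := Fintype.card F
  let S : Finset ((_ : Fin (l + 1) → F) × (Fin (l + 1) → F)) :=
    (Finset.univ.erase 0).sigma fun u => Finset.univ.filter fun φ => φ ⬝ᵥ u = 0 ∧ φ ≠ 0
  have hfiber : ∀ u : Fin (l + 1) → F, u ≠ 0 →
      (Finset.univ.filter fun φ : Fin (l + 1) → F => φ ⬝ᵥ u = 0 ∧ φ ≠ 0).card = q ^ l - 1 := by
    intro u hu
    let f : (Fin (l + 1) → F) →ₗ[F] F :=
      { toFun := fun φ => φ ⬝ᵥ u, map_add' := fun x y => add_dotProduct x y u,
        map_smul' := fun r x => smul_dotProduct r x u }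
    have hf : f ≠ 0 := fun h => by
      obtain ⟨φ, hφ, -⟩ := exists_dual hu hu
      exact one_ne_zero (hφ.symm.trans (LinearMap.congr_fun h φ))
    have hd := Module.Dual.finrank_ker_add_one_of_ne_zero hf
    rw [Module.finrank_fintype_fun_eq_card, Fintype.card_fin] at hd
    have hk := Module.natCard_eq_pow_finrank (K := F) (V := LinearMap.ker f)
    rw [show Module.finrank F (LinearMap.ker f) = l by omega, Nat.card_eq_fintype_card (α := F)] at hk
    rw [show (Finset.univ.filter fun φ : Fin (l + 1) → F => φ ⬝ᵥ u = 0 ∧ φ ≠ 0) =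
      (Finset.univ.filter fun φ : Fin (l + 1) → F => φ ⬝ᵥ u = 0).erase 0 by
        ext φ; simp only [Finset.mem_filter, Finset.mem_erase, Finset.mem_univ, true_and]; tauto,
      Finset.card_erase_of_mem (by simp)]
    congr 1
    rw [← hk, Nat.card_eq_fintype_card]
    exact (Fintype.card_of_subtype _ (fun φ => by simp [f])).symm
  have hS : S.card = (q ^ (l + 1) - 1) * (q ^ l - 1) := by
    rw [Finset.card_sigma, Finset.sum_congr rfl fun u hu => hfiber u (Finset.ne_of_mem_erase hu), Finset.sum_const,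
      smul_eq_mul, Finset.card_erase_of_mem (Finset.mem_univ _), Finset.card_univ, Fintype.card_fun, Fintype.card_fin]
  have hmem : ∀ p ∈ S, p.1 ≠ 0 ∧ p.2 ⬝ᵥ p.1 = 0 ∧ p.2 ≠ 0 := fun p hp => by
    simp only [S, Finset.mem_sigma, Finset.mem_filter, Finset.mem_univ, true_and, Finset.mem_erase, and_true] at hp
    exact ⟨hp.1, hp.2.1, hp.2.2⟩
  let f : ((_ : Fin (l + 1) → F) × (Fin (l + 1) → F)) → SpecialLinearGroup (Fin (l + 1)) F :=
    fun p => if h : p.2 ⬝ᵥ p.1 = 0 then vt p.1 p.2 h else 1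
  have hclass : Finset.univ.filter (fun x => IsConj (tx b) x) = S.image f := by
    ext x
    simp only [Finset.mem_filter, Finset.mem_univ, true_and, Finset.mem_image]
    constructor
    · intro hx
      obtain ⟨g, rfl⟩ := isConj_iff.1 hx
      set u : Fin (l + 1) → F := g.1 *ᵥ Pi.single 0 1
      set φ : Fin (l + 1) → F := (Fin.cons 0 b : Fin (l + 1) → F) ᵥ* (g⁻¹ : SpecialLinearGroup (Fin (l + 1)) F).1
      have hback : φ ᵥ* g.1 = Fin.cons 0 b := by
        rw [vecMul_vecMul]
        show (Fin.cons 0 b : Fin (l + 1) → F) ᵥ* (g⁻¹ * g).1 = _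
        rw [inv_mul_cancel]
        exact vecMul_one _
      have hd : φ ⬝ᵥ u = 0 := by rw [dotProduct_mulVec, hback]; simp
      have hu : u ≠ 0 := fun h => by
        have h' := congrArg ((g⁻¹ : SpecialLinearGroup (Fin (l + 1)) F).1 *ᵥ ·) h
        simp only [mulVec_zero] at h'
        rw [mulVec_mulVec] at h'
        have h'' : (g⁻¹ * g).1 *ᵥ (Pi.single 0 1 : Fin (l + 1) → F) = 0 := h'
        rw [inv_mul_cancel] at h''
        have h3 : (1 : Matrix (Fin (l + 1)) (Fin (l + 1)) F) *ᵥ (Pi.single 0 1 : Fin (l + 1) → F) = 0 := h''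
        rw [one_mulVec] at h3
        simpa using congrFun h3 0
      have hφ : φ ≠ 0 := fun h => hb (funext fun i => by
        have := congrFun hback i.succ
        simp [h] at this
        exact this.symm)
      refine ⟨⟨u, φ⟩, ?_, ?_⟩
      · simp only [S, Finset.mem_sigma, Finset.mem_filter, Finset.mem_univ, true_and, Finset.mem_erase, and_true]
        exact ⟨hu, hd, hφ⟩
      · simp only [f, dif_pos hd]
        rw [tx_eq_vt, conj_vt g (u' := u) (φ' := φ) _ hd rfl hback, mul_inv_cancel_right]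
    · rintro ⟨p, hp, rfl⟩
      obtain ⟨h1, h2, h3⟩ := hmem p hp
      simp only [f, dif_pos h2]
      rw [tx_eq_vt]
      exact isConj_vt (by simp; omega) _ _ (by simp) (fun h => hb (funext fun i => by
        simpa using congrFun h i.succ)) h1 h3
  have hfib : ∀ x ∈ S.image f, (S.filter fun p => f p = x).card = q - 1 := by
    intro x hx
    obtain ⟨⟨u, φ⟩, hp, rfl⟩ := Finset.mem_image.1 hx
    obtain ⟨h1, h2, h3⟩ := hmem _ hp
    simp only at h1 h2 h3
    let g : F → ((_ : Fin (l + 1) → F) × (Fin (l + 1) → F)) := fun s => ⟨s • u, s⁻¹ • φ⟩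
    rw [show S.filter (fun p => f p = f ⟨u, φ⟩) = (Finset.univ.erase (0 : F)).image g from ?_,
      Finset.card_image_of_injective _ (fun s s' h => smul_left_injective F h1 (congrArg Sigma.fst h)),
      Finset.card_erase_of_mem (Finset.mem_univ _), Finset.card_univ]
    ext ⟨u', φ'⟩
    simp only [Finset.mem_filter, Finset.mem_image, Finset.mem_erase, Finset.mem_univ, and_true]
    constructor
    · rintro ⟨hp', he⟩
      obtain ⟨h1', h2', h3'⟩ := hmem _ hp'
      simp only at h1' h2' h3'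
      simp only [f, dif_pos h2', dif_pos h2] at he
      have hm : vecMulVec u' φ' = vecMulVec u φ := by
        have := congrArg Subtype.val he
        simpa [vt_coe] using this
      obtain ⟨j, hj⟩ := Function.ne_iff.1 h3'
      rw [Pi.zero_apply] at hj
      have hu' : u' = (φ j / φ' j) • u := funext fun i => by
        have := congrFun (congrFun hm i) j
        simp [vecMulVec_apply] at this ⊢
        field_simp
        linear_combination this
      have hs : φ j / φ' j ≠ 0 := fun h => h1' (by rw [hu', h, zero_smul])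
      refine ⟨φ j / φ' j, hs, ?_⟩
      obtain ⟨i, hi⟩ := Function.ne_iff.1 h1
      rw [Pi.zero_apply] at hi
      have hφ' : φ' = (φ j / φ' j)⁻¹ • φ := funext fun r => by
        have := congrFun (congrFun hm i) r
        rw [hu'] at this
        simp only [vecMulVec_apply, Pi.smul_apply, smul_eq_mul] at this ⊢
        have hj' : φ j ≠ 0 := fun h => hs (by rw [h, zero_div])
        field_simp at this ⊢
        linear_combination this
      simp only [g, ← hu', ← hφ']
    · rintro ⟨s, hs, he⟩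
      rw [← he]
      have hd : (s⁻¹ • φ) ⬝ᵥ (s • u) = 0 := by rw [smul_dotProduct, dotProduct_smul, h2]; simp
      refine ⟨?_, ?_⟩
      · simp only [S, g, Finset.mem_sigma, Finset.mem_filter, Finset.mem_univ, true_and, Finset.mem_erase, and_true]
        exact ⟨smul_ne_zero hs h1, hd, smul_ne_zero (inv_ne_zero hs) h3⟩
      · simp only [f, g, dif_pos hd, dif_pos h2]
        refine Subtype.ext ?_
        simp [vt_coe, smul_vecMulVec, vecMulVec_smul, smul_smul, hs]
  rw [Nat.card_eq_fintype_card, Fintype.card_subtype, hclass, ← hS,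
    Finset.card_eq_sum_card_image f S, Finset.sum_congr rfl hfib, Finset.sum_const, smul_eq_mul]

/-- The divisibility from the central character at a transvection. -/
theorem dvd_class (hl : 2 ≤ l) [ρ.IsIrreducible] (e : ℕ) (he : ∀ a : Fin l → F, a ≠ 0 → dm ρ a = e)
    (hpos : 0 < Module.finrank ℂ W) : ∃ C : ℕ,
      C * (Fintype.card F - 1) = (Fintype.card F ^ (l + 1) - 1) * (Fintype.card F ^ l - 1) ∧
      (Module.finrank ℂ W : ℤ) ∣ (C : ℤ) * ((dm ρ 0 : ℤ) - e) := by
  set b : Fin l → F := Pi.single ⟨0, by omega⟩ 1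
  have hb : b ≠ 0 := by simp [b]
  set C := Nat.card {x : SpecialLinearGroup (Fin (l + 1)) F // IsConj (tx b) x} with hC
  refine ⟨C, class_card hl hb, ?_⟩
  have h := CharTheory.isIntegral_centralChar ρ (tx b)
  rw [show ρ.character (tx b) = LinearMap.trace ℂ W (ρ (tx b)) from rfl, trace_tx ρ e he hb, ← hC] at h
  set k := Module.finrank ℂ W
  have hq : ((C : ℂ) * ((dm ρ 0 : ℂ) - e) / (k : ℂ)) =
      (((((C : ℤ) * ((dm ρ 0 : ℤ) - e) : ℤ) : ℚ) / (k : ℚ) : ℚ) : ℂ) := by push_cast; ring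
  rw [hq] at h
  obtain ⟨m, hm⟩ := CharTheory.exists_int_of_isIntegral_ratCast h
  rw [div_eq_iff (Nat.cast_ne_zero.2 hpos.ne')] at hm
  exact ⟨m, by rw [mul_comm (k : ℤ)]; exact_mod_cast hm⟩

end CfsgLib.SLMin
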