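import Mathlib
import Cfsg.Agent.Lib.SLMin.Radical
import Cfsg.Agent.S0157

/-! The smallest degree of a non-trivial representation of `SL_n(q)`. -/

set_option autoImplicit false
set_option maxHeartbeats 800000

namespace CfsgLib.SLMin

open Matrix
open scoped LinearAlgebra.Projectivization

theorem gs_succ (q m : ℕ) : gs q (m + 1) = q * gs q m + 1 := by
  rw [gs, geom_sum_succ]; rfl

theorem gs_geom {q : ℕ} (hq : 1 ≤ q) (m : ℕ) : (q - 1) * gs q m + 1 = q ^ m := by
  obtain ⟨p, rfl⟩ : ∃ p, q = p + 1 := ⟨q - 1, by omega⟩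
  induction m with
  | zero => simp [gs]
  | succ m ih =>
    rw [gs_succ, Nat.add_sub_cancel] at *
    calc p * ((p + 1) * gs (p + 1) m + 1) + 1 = (p + 1) * (p * gs (p + 1) m + 1) := by ring
      _ = _ := by rw [ih, pow_succ']

variable {G : Type*} [Group G] {W : Type} [AddCommGroup W] [Module ℂ W] [FiniteDimensional ℂ W]

/-- An irreducible constituent without fixed vectors. -/
theorem exists_irr (ρ : Representation ℂ G W) (hfix : NoFix ρ) [Nontrivial W] :
    ∃ (U : Submodule ℂ W) (σ : Representation ℂ G U), σ.IsIrreducible ∧ NoFix σ ∧ Nontrivial U := by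
  classical
  have hex : ∃ n, ∃ U : Submodule ℂ W, (∀ g, ∀ x ∈ U, ρ g x ∈ U) ∧ U ≠ ⊥ ∧ Module.finrank ℂ U = n :=
    ⟨_, ⊤, fun _ _ _ => Submodule.mem_top, top_ne_bot, rfl⟩
  obtain ⟨U, hU, hU0, hUn⟩ := Nat.find_spec hex
  let σ : Representation ℂ G U :=
    { toFun := fun g => (ρ g).restrict (p := U) (q := U) (hU g)
      map_one' := LinearMap.ext fun x => Subtype.ext (by
        show ρ 1 x.1 = x.1
        rw [map_one]; rfl)
      map_mul' := fun g h => LinearMap.ext fun x => Subtype.ext (by
        show ρ (g * h) x.1 = ρ g (ρ h x.1)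
        rw [map_mul]; rfl) }
  have hUnt : Nontrivial U := Submodule.nontrivial_iff_ne_bot.2 hU0
  refine ⟨U, σ, ?_, fun w hw => Subtype.ext (hfix w.1 fun g => congrArg Subtype.val (hw g)), hUnt⟩
  refine { exists_pair_ne := ⟨⊥, ⊤, fun h => ?_⟩, eq_bot_or_eq_top := fun S => ?_ }
  · exact bot_ne_top (α := Submodule ℂ U) (congrArg Subrepresentation.toSubmodule h)
  · by_cases h0 : S.toSubmodule = ⊥
    · exact Or.inl (Subrepresentation.toSubmodule_injective h0)
    · right
      refine Subrepresentation.toSubmodule_injective ?_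
      show S.toSubmodule = ⊤
      have hmap0 : S.toSubmodule.map U.subtype ≠ ⊥ := fun h => h0 (Submodule.map_injective_of_injective
        U.injective_subtype (h.trans (Submodule.map_bot _).symm))
      have hle : Nat.find hex ≤ Module.finrank ℂ (S.toSubmodule.map U.subtype) := by
        refine Nat.find_min' hex ⟨_, ?_, hmap0, rfl⟩
        rintro g _ ⟨x, hx, rfl⟩
        exact ⟨σ g x, S.apply_mem_toSubmodule g hx, rfl⟩
      rw [← hUn, Submodule.finrank_map_subtype_eq] at hle
      exact Submodule.eq_top_of_finrank_eq (le_antisymm (Submodule.finrank_le _) hle)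

variable {F : Type*} [Field F] [Fintype F] [DecidableEq F] {l : ℕ}
  (ρ : Representation ℂ (SpecialLinearGroup (Fin (l + 1)) F) W)

/-- The decomposition of the dimension. -/
theorem crude (hl : 1 ≤ l) (ht : Trans F l) (hfix : NoFix ρ) [Nontrivial W] :
    ∃ e, 1 ≤ e ∧ Module.finrank ℂ W = dm ρ 0 + e * (Fintype.card F ^ l - 1) ∧
      ∀ a : Fin l → F, a ≠ 0 → dm ρ a = e := by
  set a1 : Fin l → F := Pi.single ⟨0, by omega⟩ 1
  have ha1 : a1 ≠ 0 := by simp [a1]
  have he : ∀ a : Fin l → F, a ≠ 0 → dm ρ a = dm ρ a1 := fun a ha => dm_const ρ ht ha ha1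
  exact ⟨_, dm_pos ρ hl hfix ha1 ht, finrank_eq ρ _ he, he⟩

theorem orbit_le (hl : 1 ≤ l) (ht : Trans F l) (hfix : NoFix ρ) [Nontrivial W] :
    Fintype.card F ^ l - 1 ≤ Module.finrank ℂ W := by
  obtain ⟨e, he, hk, -⟩ := crude ρ hl ht hfix
  rw [hk]
  exact le_add_left (Nat.le_mul_of_pos_left _ he)

/-- The allowed parameters. -/
def Ok (l q : ℕ) : Prop := (l = 2 → q ≠ 2 ∧ q ≠ 4) ∧ (l = 3 → q ≠ 2 ∧ q ≠ 3)

/-- The second level: the fixed space is the span of characters plus a space of controlled size. -/
theorem second_level (hl : 2 ≤ l) (B : ℕ)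
    (hB : ∀ (σ : Representation ℂ (SpecialLinearGroup (Fin l) F) (LinearMap.range (pr ρ 0))),
      NoFix σ → Nontrivial (LinearMap.range (pr ρ 0)) → B ≤ dm ρ 0)
    (hfix : NoFix ρ) [Nontrivial W] :
    gs (Fintype.card F) (l + 1) - 1 ≤ Module.finrank ℂ W ∨
      ∃ e, 1 ≤ e ∧ ∃ w, Module.finrank ℂ W = w + e * (Fintype.card F ^ l - 1) ∧ (w = 0 ∨ B ≤ w) := by
  by_cases hk : gs (Fintype.card F) (l + 1) - 1 ≤ Module.finrank ℂ W
  · exact Or.inl hk
  right
  obtain ⟨e, he, hk', -⟩ := crude ρ (by omega) (trans_two hl) hfix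
  refine ⟨e, he, dm ρ 0, hk', ?_⟩
  rcases Nat.eq_zero_or_pos (dm ρ 0) with h | h
  · exact Or.inl h
  · exact Or.inr (hB _ (noFix_rep0 ρ hl hfix (not_le.1 hk)) (Module.finrank_pos_iff.1 h))

section main

variable (F)

/-- The bound for irreducible representations. -/
theorem irr_bound : ∀ (l : ℕ), 2 ≤ l → Ok l (Fintype.card F) → ∀ (W : Type) [AddCommGroup W] [Module ℂ W]
    [FiniteDimensional ℂ W] [Nontrivial W] (ρ : Representation ℂ (SpecialLinearGroup (Fin (l + 1)) F) W),
    ρ.IsIrreducible → NoFix ρ → gs (Fintype.card F) (l + 1) - 1 ≤ Module.finrank ℂ W := by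
  intro l
  induction l with
  | zero => omega
  | succ l' IH =>
    intro hl hok W _ _ _ _ ρ hirr hfix
    haveI := hirr
    classical
    by_contra hlt
    rw [not_le] at hlt
    set q := Fintype.card F with hqdef
    have hq : 2 ≤ q := Fintype.one_lt_card
    set G := gs q (l' + 1) with hG
    have hK : gs q (l' + 1 + 1) = q * G + 1 := gs_succ q _
    have hgeom : (q - 1) * G + 1 = q ^ (l' + 1) := gs_geom (by omega) _
    obtain ⟨e, he1, hk, he⟩ := crude ρ (by omega) (trans_two hl) hfix
    rw [← hqdef] at hk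
    have hql : q ^ (l' + 1) - 1 = (q - 1) * G := by omega
    rw [hql] at hk
    rw [hK, Nat.add_sub_cancel] at hlt
    obtain rfl : e = 1 := by
      by_contra hne
      have h2 : 2 * ((q - 1) * G) ≤ e * ((q - 1) * G) := Nat.mul_le_mul_right _ (by omega)
      have h3 : q * G ≤ 2 * (q - 1) * G := Nat.mul_le_mul_right _ (by omega)
      rw [mul_assoc] at h3
      omega
    set w := dm ρ 0 with hw
    have hwG : w < G := by
      have : q * G = (q - 1) * G + G := by
        obtain ⟨p, hp⟩ : ∃ p, q = p + 1 := ⟨q - 1, by omega⟩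
        rw [hp, Nat.add_sub_cancel, add_mul, one_mul]
      omega
    -- the fixed space is non-trivial
    have hprime : IsPrimePow q := Fintype.isPrimePow_card_of_field
    have hok' : (l' + 1 = 2 ∧ ∃ d : F, d ≠ 0 ∧ d ^ 3 ≠ 1) ∨ (l' + 1 = 3 ∧ ∃ s : F, s ≠ 0 ∧ s * s ≠ 1) ∨
        4 ≤ l' + 1 := by
      rcases (show l' + 1 = 2 ∨ l' + 1 = 3 ∨ 4 ≤ l' + 1 by omega) with h | h | h
      · refine Or.inl ⟨h, ?_⟩
        by_contra hcon
        push Not at hcon
        have hsub : (Finset.univ.erase (0 : F)) ⊆ (Polynomial.nthRoots 3 (1 : F)).toFinset := fun d hd => by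
          rw [Multiset.mem_toFinset, Polynomial.mem_nthRoots (by norm_num)]
          exact hcon d (Finset.ne_of_mem_erase hd)
        have h3 := (Finset.card_le_card hsub).trans ((Multiset.toFinset_card_le _).trans
          (Polynomial.card_nthRoots 3 1))
        rw [Finset.card_erase_of_mem (Finset.mem_univ _), Finset.card_univ, ← hqdef] at h3
        obtain ⟨hq2, hq4⟩ := hok.1 h
        have hq3 : q = 3 := by omega
        have hm : (-1 : F) ^ 3 = 1 := hcon (-1) (neg_ne_zero.2 one_ne_zero)
        have h20 : ((2 : ℕ) : F) = 0 := by push_cast; linear_combination -hm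
        have := FiniteField.even_card_of_char_two (CharP.ringChar_of_prime_eq_zero Nat.prime_two h20)
        omega
      · refine Or.inr (Or.inl ⟨h, ?_⟩)
        by_contra hcon
        push Not at hcon
        have hsub : (Finset.univ.erase (0 : F)) ⊆ (Polynomial.nthRoots 2 (1 : F)).toFinset := fun d hd => by
          rw [Multiset.mem_toFinset, Polynomial.mem_nthRoots (by norm_num), sq]
          exact hcon d (Finset.ne_of_mem_erase hd)
        have h3 := (Finset.card_le_card hsub).trans ((Multiset.toFinset_card_le _).trans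
          (Polynomial.card_nthRoots 2 1))
        rw [Finset.card_erase_of_mem (Finset.mem_univ _), Finset.card_univ, ← hqdef] at h3
        have := hok.2 h
        omega
      · exact Or.inr (Or.inr h)
    have hlam := fun (a : Fin (l' + 1) → F) (ha : a ≠ 0) ha1 t => lam_trivial ρ hl hok' he ha ha1 t
    have hlow := rep0_lower ρ hl he hlam
    have hwpos := rep0_ne_zero ρ hl he hlam
    rw [← hqdef, ← hw] at hlow
    rw [← hw] at hwpos
    have hW0 : Nontrivial (LinearMap.range (pr ρ 0)) := Module.finrank_pos_iff.1 hwpos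
    have hfix0 : NoFix (rep0 ρ) := noFix_rep0 ρ hl hfix (by rw [← hqdef, hK, Nat.add_sub_cancel]; exact hlt)
    obtain ⟨U, σ, hσ, hσfix, hUnt⟩ := exists_irr (rep0 ρ) hfix0
    have hU : Module.finrank ℂ U ≤ w := Submodule.finrank_le U
    obtain ⟨C, hC, hdvd⟩ := dvd_class ρ hl 1 he Module.finrank_pos
    rw [← hqdef] at hC
    rw [← hw, hk, one_mul] at hdvd
    rw [hql] at hC
    -- the general case
    have general : w + 1 = G → False := by
      intro hwG1
      have hC' : C = (q * G + 1) * ((q - 1) * G) := by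
        have e1 : q ^ (l' + 1 + 1) - 1 = (q - 1) * (q * G + 1) := by
          have := gs_geom (q := q) (by omega) (l' + 1 + 1)
          rw [hK] at this
          omega
        rw [e1] at hC
        exact mul_right_cancel₀ (show q - 1 ≠ 0 by omega) (by linarith)
      set k : ℤ := (q : ℤ) * G - 1 with hkdef
      have hw' : (w : ℤ) = G - 1 := by omega
      rw [hC'] at hdvd
      push_cast [Nat.cast_sub (show 1 ≤ q by omega)] at hdvd
      rw [hw'] at hdvd
      have hkk : ((G : ℤ) - 1) + ((q : ℤ) - 1) * G = k := by rw [hkdef]; ring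
      rw [hkk] at hdvd
      have hgeomZ : ((q : ℤ) - 1) * G + 1 = (q : ℤ) ^ (l' + 1) := by
        have := congrArg (Nat.cast : ℕ → ℤ) hgeom
        push_cast [Nat.cast_sub (show 1 ≤ q by omega)] at this
        exact this
      have hx : k ∣ 2 * ((q : ℤ) - 1) * (q : ℤ) ^ (l' + 1) := by
        have e : 2 * ((q : ℤ) - 1) * (q : ℤ) ^ (l' + 1) =
            k * (((q : ℤ) - 1) * ((k + 2) * (k + 1) - (q : ℤ) ^ (l' + 1) * (k + 3))) -
              q * ((((q : ℤ) * G + 1) * (((q : ℤ) - 1) * G)) * (((G : ℤ) - 1) - 1)) := by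
          rw [← hgeomZ, hkdef]; ring
        rw [e]
        exact dvd_sub (dvd_mul_right _ _) (Dvd.dvd.mul_left hdvd _)
      have hcop : IsCoprime k ((q : ℤ) ^ (l' + 1)) := IsCoprime.pow_right ⟨-1, (G : ℤ), by rw [hkdef]; ring⟩
      have hle := Int.le_of_dvd (by nlinarith [show (2 : ℤ) ≤ q by exact_mod_cast hq]) (hcop.dvd_of_dvd_mul_right hx)
      have hG3 : q + 1 ≤ G := by
        rw [hG, gs]
        calc q + 1 = ∑ i ∈ Finset.range 2, q ^ i := by simp [Finset.sum_range_succ]; ring
          _ ≤ _ := Finset.sum_le_sum_of_subset (Finset.range_subset_range.2 (by omega))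
      have hG3' : (q : ℤ) + 1 ≤ G := by exact_mod_cast hG3
      nlinarith [show (2 : ℤ) ≤ q by exact_mod_cast hq]
    rcases (show l' + 1 = 2 ∨ (l' + 1 = 3 ∧ q = 4) ∨ (l' + 1 = 4 ∧ q = 2) ∨ (l' + 1 = 4 ∧ q = 3) ∨
      (2 ≤ l' ∧ Ok l' q) by
        unfold Ok at hok ⊢
        omega) with h | h | h | h | ⟨hl2, hokl⟩
    · -- dimension three
      obtain rfl : l' = 1 := by omega
      obtain ⟨hq2, hq4⟩ := hok.1 h
      have hGv : G = q + 1 := by rw [hG]; simp [gs, Finset.sum_range_succ]; ring
      have hw1 : q - 1 ≤ w := by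
        rw [show 1 + 1 - 1 = 1 by omega, pow_one, mul_comm] at hlow
        exact Nat.le_of_mul_le_mul_left hlow (by omega)
      rcases (show w + 1 = G ∨ w = q - 1 by omega) with h1 | h1
      · exact general h1
      · obtain ⟨p, hp⟩ : ∃ p, q = p + 1 := ⟨q - 1, by omega⟩
        have hC' : C = ((q * q + q + 1)) * ((q - 1) * (q + 1)) := by
          rw [hGv] at hC
          have e1 : q ^ (1 + 1 + 1) - 1 = (q - 1) * (q * q + q + 1) := by
            rw [hp, Nat.add_sub_cancel,
              show (p + 1) ^ (1 + 1 + 1) = p * ((p + 1) * (p + 1) + (p + 1) + 1) + 1 by ring, Nat.add_sub_cancel]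
          rw [e1] at hC
          exact mul_right_cancel₀ (show q - 1 ≠ 0 by omega) (by linarith)
        rw [hC', h1, hGv, hp] at hdvd
        rw [Nat.add_sub_cancel] at hdvd
        push_cast at hdvd
        set P : ℤ := (p : ℤ)
        obtain ⟨c, hc⟩ := hdvd
        have hP : P ≠ 0 := by
          show (p : ℤ) ≠ 0
          omega
        have hc' : ((P + 1) * (P + 1) + (P + 1) + 1) * (P + 2) * (P - 1) = (P + 3) * c :=
          mul_left_cancel₀ hP (by linear_combination hc)
        have h12 : (P + 3) ∣ 12 := ⟨c - (P ^ 3 + P ^ 2 + P - 6), by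
          linear_combination hc'⟩
        have hle := Int.le_of_dvd (by norm_num) h12
        have : p ≤ 9 := by omega
        have h12' : (p + 3) ∣ 12 := by
          have hh : ((p + 3 : ℕ) : ℤ) ∣ ((12 : ℕ) : ℤ) := by push_cast; exact h12
          exact Int.natCast_dvd_natCast.1 hh
        clear hc hc' hP h12 hle
        interval_cases p <;> first | omega | skip
        all_goals
          rw [hp, isPrimePow_nat_iff_bounded] at hprime
          revert hprime
          decide
    · obtain ⟨hl3, hq4⟩ := h
      obtain rfl : l' = 2 := by omega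
      have h2F : (2 : F) = 0 := by
        have h4 : (4 : F) = 0 := by
          have := FiniteField.cast_card_eq_zero F
          rw [← hqdef, hq4] at this
          exact_mod_cast this
        exact mul_self_eq_zero.1 (by linear_combination h4)
      have hG21 : G = 21 := by rw [hG, hq4]; rfl
      haveI := hUnt
      have h20 := second_level σ (by omega) 3 (fun τ hτ hnt => by
        have := @orbit_le _ _ _ _ F _ _ _ 1 τ le_rfl (trans_one h2F) hτ hnt
        rw [← hqdef, hq4] at this
        exact this) hσfix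
      rw [← hqdef, hq4] at h20
      have hcase : w = 15 ∨ (18 ≤ w ∧ w < 21) := by
        rw [show gs 4 (2 + 1) = 21 from rfl] at h20
        rcases h20 with h20 | ⟨e', he', w', hw', hw''⟩
        · omega
        · have hwlow : 12 ≤ w := by rw [hq4] at hlow; norm_num at hlow; omega
          norm_num at hw'
          -- the constituent is either everything or leaves room for nothing
          obtain ⟨e'', he'', hk'', -⟩ := @crude _ _ _ _ F _ _ _ 2 (rep0 ρ) (by omega) (trans_two le_rfl) hfix0 hW0
          rw [← hqdef, hq4, finrank_rep0, ← hw] at hk''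
          norm_num at hk''
          rcases Nat.eq_zero_or_pos (dm (rep0 ρ) 0) with h0 | h0
          · omega
          · have hfix00 := noFix_rep0 (rep0 ρ) le_rfl hfix0
            by_cases hsm : w < 20
            · have h00 := @orbit_le _ _ _ _ F _ _ _ 1 (rep0 (rep0 ρ)) le_rfl (trans_one h2F)
                (hfix00 (by rw [← hqdef, hq4, finrank_rep0, ← hw, show gs 4 (2 + 1) = 21 from rfl]; omega))
                (Module.finrank_pos_iff.1 h0)
              rw [← hqdef, hq4, finrank_rep0] at h00
              norm_num at h00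
              omega
            · omega
      rw [hq4, hG21] at hdvd
      rw [hq4, hG21] at hC
      norm_num at hC hdvd
      obtain rfl : C = 5355 := by omega
      rcases hcase with rfl' | ⟨h1, h2⟩
      · rw [rfl'] at hdvd; norm_num at hdvd
      · interval_cases w <;> norm_num at hdvd
    · obtain ⟨hl4, hq2⟩ := h
      obtain rfl : l' = 3 := by omega
      have hG15 : G = 15 := by rw [hG, hq2]; rfl
      obtain ⟨e'', he'', hk'', -⟩ := @crude _ _ _ _ F _ _ _ 3 (rep0 ρ) (by omega) (trans_two (by omega)) hfix0 hW0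
      rw [← hqdef, hq2, finrank_rep0, ← hw] at hk''
      norm_num at hk''
      have hcase : w = 7 ∨ (10 ≤ w ∧ w < 15) := by
        rcases Nat.eq_zero_or_pos (dm (rep0 ρ) 0) with h0 | h0
        · omega
        · by_cases hsm : w < 14
          · have h00 := @orbit_le _ _ _ _ F _ _ _ 2 (rep0 (rep0 ρ)) (by omega) (trans_two le_rfl)
              (noFix_rep0 (rep0 ρ) (by omega) hfix0
                (by rw [← hqdef, hq2, finrank_rep0, ← hw, show gs 2 (3 + 1) = 15 from rfl]; omega))
              (Module.finrank_pos_iff.1 h0)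
            rw [← hqdef, hq2, finrank_rep0] at h00
            norm_num at h00
            omega
          · omega
      rw [hq2, hG15] at hdvd
      rw [hq2, hG15] at hC
      norm_num at hC hdvd
      obtain rfl : C = 465 := by omega
      rcases hcase with h1 | ⟨h1, h2⟩
      · rw [h1] at hdvd; norm_num at hdvd
      · interval_cases w <;> norm_num at hdvd
    · obtain ⟨hl4, hq3⟩ := h
      obtain rfl : l' = 3 := by omega
      have hG40 : G = 40 := by rw [hG, hq3]; rfl
      obtain ⟨e'', he'', hk'', -⟩ := @crude _ _ _ _ F _ _ _ 3 (rep0 ρ) (by omega) (trans_two (by omega)) hfix0 hW0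
      rw [← hqdef, hq3, finrank_rep0, ← hw] at hk''
      norm_num at hk''
      have hcase : w = 26 ∨ (34 ≤ w ∧ w < 40) := by
        rcases Nat.eq_zero_or_pos (dm (rep0 ρ) 0) with h0 | h0
        · omega
        · by_cases hsm : w < 39
          · have h00 := @orbit_le _ _ _ _ F _ _ _ 2 (rep0 (rep0 ρ)) (by omega) (trans_two le_rfl)
              (noFix_rep0 (rep0 ρ) (by omega) hfix0
                (by rw [← hqdef, hq3, finrank_rep0, ← hw, show gs 3 (3 + 1) = 40 from rfl]; omega))
              (Module.finrank_pos_iff.1 h0)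
            rw [← hqdef, hq3, finrank_rep0] at h00
            norm_num at h00
            omega
          · omega
      rw [hq3, hG40] at hdvd
      rw [hq3, hG40] at hC
      norm_num at hC hdvd
      obtain rfl : C = 9680 := by omega
      rcases hcase with h1 | ⟨h1, h2⟩
      · rw [h1] at hdvd; norm_num at hdvd
      · interval_cases w <;> norm_num at hdvd
    · -- induction
      haveI := hUnt
      have h1 := IH hl2 hokl U σ hσ hσfix
      exact general (by omega)

end main

variable (F)

/-- The representation on the points of projective space. -/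
theorem exists_perm (n : ℕ) (hn : 2 ≤ n) :
    ∃ ρ : Representation ℂ (SpecialLinearGroup (Fin n) F) (Fin (gs (Fintype.card F) n - 1) → ℂ),
      ρ.IsIrreducible := by
  classical
  haveI : Nontrivial (Fin n) := Fin.nontrivial_iff_two_le.mpr hn
  haveI h2 : MulAction.IsMultiplyPretransitive (SpecialLinearGroup (Fin n) F) (ℙ F (Fin n → F)) 2 := by
    have h := Projectivization.specialLinearGroup_is_two_pretransitive F (Fin n → F)
    rw [MulAction.is_two_pretransitive_iff] at h ⊢
    intro a b c d hab hcd
    obtain ⟨g, g1, g2⟩ := h hab hcd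
    refine ⟨SpecialLinearGroup.toLin'_equiv.symm g, ?_, ?_⟩ <;>
      rw [Projectivization.matrixSpecialLinearGroup_smul_def, MulEquiv.apply_symm_apply] <;> assumption
  haveI : MulAction.IsPretransitive (SpecialLinearGroup (Fin n) F) (ℙ F (Fin n → F)) :=
    MulAction.isPretransitive_of_is_two_pretransitive
  have hcard : Nat.card (ℙ F (Fin n → F)) = gs (Fintype.card F) n := by
    rw [Projectivization.card_of_finrank F (Fin n → F) (n := n) (by simp), Nat.card_eq_fintype_card]; rfl
  have hge : 2 ≤ gs (Fintype.card F) n := by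
    obtain ⟨m, rfl⟩ : ∃ m, n = m + 2 := ⟨n - 2, by omega⟩
    rw [gs_succ, gs_succ]
    have := Fintype.one_lt_card (α := F)
    have := Nat.le_mul_of_pos_right (Fintype.card F) (Nat.succ_pos (Fintype.card F * gs (Fintype.card F) m))
    simp only [Nat.succ_eq_add_one] at this
    omega
  obtain ⟨d, ρ, hρ, hχ⟩ := (Cfsg.Agent.S0157.result (G := SpecialLinearGroup (Fin n) F) (ℙ F (Fin n → F))
    (by rw [hcard]; exact hge)).2 inferInstance
  have hd : d = gs (Fintype.card F) n - 1 := by
    have h1 := congrFun hχ 1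
    rw [Representation.char_one, Module.finrank_fintype_fun_eq_card, Fintype.card_fin] at h1
    have hfix : Nat.card (MulAction.fixedBy (ℙ F (Fin n → F)) (1 : SpecialLinearGroup (Fin n) F)) =
        gs (Fintype.card F) n := by
      rw [← hcard]
      exact Nat.card_congr (Equiv.subtypeUnivEquiv fun x => one_smul _ x)
    rw [hfix] at h1
    apply Nat.cast_injective (R := ℂ)
    rw [h1, Nat.cast_sub (by omega), Nat.cast_one]
  subst hd
  exact ⟨ρ, hρ⟩

end CfsgLib.SLMin
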