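import Mathlib
import Cfsg.Agent.Lib.SLMin.Main
import Cfsg.Agent.Lib.SLCard
import Cfsg.Agent.Lib.CharTheory.Degree

/-! Permutation representations of `SL_n(q)` of small degree. -/

set_option autoImplicit false
set_option maxHeartbeats 800000

namespace CfsgLib.SLMin

open Matrix
open scoped ComplexConjugate

section perm

variable {G : Type*} [Group G] {X : Type*} [MulAction G X] {m : ℕ}

/-- The functions with sum zero. -/
noncomputable def sz (m : ℕ) : Submodule ℂ (Fin m → ℂ) :=
  LinearMap.ker (∑ i : Fin m, (LinearMap.proj i : (Fin m → ℂ) →ₗ[ℂ] ℂ))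

theorem mem_sz {f : Fin m → ℂ} : f ∈ sz m ↔ ∑ i, f i = 0 := by
  simp [sz, LinearMap.mem_ker, LinearMap.sum_apply]

theorem finrank_sz (hm : 1 ≤ m) : Module.finrank ℂ (sz m) = m - 1 := by
  haveI : NeZero m := ⟨by omega⟩
  have hs : ∀ c, ∃ f, (∑ i : Fin m, (LinearMap.proj i : (Fin m → ℂ) →ₗ[ℂ] ℂ) : (Fin m → ℂ) →ₗ[ℂ] ℂ) f = c :=
    fun c => ⟨Pi.single 0 c, by simp [LinearMap.sum_apply]⟩
  have h := LinearMap.finrank_range_add_finrank_ker (∑ i : Fin m, (LinearMap.proj i : (Fin m → ℂ) →ₗ[ℂ] ℂ))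
  rw [LinearMap.range_eq_top.2 hs, finrank_top, Module.finrank_self, Module.finrank_fintype_fun_eq_card,
    Fintype.card_fin] at h
  rw [sz]
  omega

theorem nontrivial_sz (hm : 2 ≤ m) : Nontrivial (sz m) :=
  Module.finrank_pos_iff.1 (by rw [finrank_sz (by omega)]; omega)

/-- The permutation of the labels. -/
def pe (e : X ≃ Fin m) (g : G) : Fin m ≃ Fin m := (e.symm.trans (MulAction.toPerm g⁻¹)).trans e

theorem pe_apply (e : X ≃ Fin m) (g : G) (i : Fin m) : pe e g i = e (g⁻¹ • e.symm i) := rfl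

/-- The permutation representation on sum-zero functions. -/
noncomputable def prm (e : X ≃ Fin m) : Representation ℂ G (sz m) where
  toFun g := (LinearMap.funLeft ℂ ℂ (pe e g)).restrict (p := sz m) (q := sz m) fun f hf => by
    rw [mem_sz] at hf ⊢
    rw [← hf]
    exact (pe e g).sum_comp f
  map_one' := LinearMap.ext fun f => Subtype.ext (funext fun i => by
    show f.1 (pe e 1 i) = f.1 i
    simp [pe_apply])
  map_mul' g h := LinearMap.ext fun f => Subtype.ext (funext fun i => by
    show f.1 (pe e (g * h) i) = f.1 (pe e h (pe e g i))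
    simp [pe_apply, mul_smul])

theorem prm_apply (e : X ≃ Fin m) (g : G) (f : sz m) (i : Fin m) :
    (prm e g f).1 i = f.1 (e (g⁻¹ • e.symm i)) := rfl

theorem noFix_prm [MulAction.IsPretransitive G X] (e : X ≃ Fin m) : NoFix (prm (G := G) e) := by
  intro f hf
  refine Subtype.ext (funext fun i => ?_)
  have hc : ∀ j, f.1 j = f.1 i := fun j => by
    obtain ⟨g, hg⟩ := MulAction.exists_smul_eq G (e.symm i) (e.symm j)
    have h := congrArg (fun x : sz m => x.1 i) (hf g⁻¹)
    simp only [prm_apply, inv_inv, hg, Equiv.apply_symm_apply] at h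
    exact h
  have h0 := mem_sz.1 f.2
  rw [Finset.sum_congr rfl fun j _ => hc j, Finset.sum_const, Finset.card_univ, Fintype.card_fin,
    nsmul_eq_mul] at h0
  exact (mul_eq_zero.1 h0).resolve_left (Nat.cast_ne_zero.2 (Fin.pos i).ne')

/-- Two invariant orthogonal parts do not fit, so the representation is irreducible. -/
theorem irreducible_of_perm {W : Type} [AddCommGroup W] [Module ℂ W] [FiniteDimensional ℂ W] [Nontrivial W]
    (ρ : Representation ℂ G W) (hfix : NoFix ρ) (j : W →ₗ[ℂ] (Fin m → ℂ)) (hj : Function.Injective j)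
    (σ : G → Fin m ≃ Fin m) (hσ : ∀ g w i, j (ρ g w) i = j w (σ g i)) (B : ℕ)
    (hB : ∀ (W' : Type) [AddCommGroup W'] [Module ℂ W'] [FiniteDimensional ℂ W'] [Nontrivial W']
      (τ : Representation ℂ G W'), NoFix τ → B ≤ Module.finrank ℂ W')
    (h2 : Module.finrank ℂ W < 2 * B) : ρ.IsIrreducible := by
  classical
  have hbound : ∀ U : Submodule ℂ W, (∀ g : G, ∀ x ∈ U, ρ g x ∈ U) → U ≠ ⊥ → B ≤ Module.finrank ℂ U := by
    intro U hU hU0
    let τ : Representation ℂ G U :=
      { toFun := fun g => (ρ g).restrict (p := U) (q := U) (hU g)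
        map_one' := LinearMap.ext fun x => Subtype.ext (by
          show ρ (1 : G) x.1 = x.1
          rw [map_one]; rfl)
        map_mul' := fun g h => LinearMap.ext fun x => Subtype.ext (by
          show ρ (g * h) x.1 = ρ g (ρ h x.1)
          rw [map_mul]; rfl) }
    haveI : Nontrivial U := Submodule.nontrivial_iff_ne_bot.2 hU0
    exact hB U τ fun w hw => Subtype.ext (hfix w.1 fun g => congrArg Subtype.val (hw g))
  refine { exists_pair_ne := ⟨⊥, ⊤, fun h => ?_⟩, eq_bot_or_eq_top := fun S => ?_ }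
  · exact bot_ne_top (α := Submodule ℂ W) (congrArg Subrepresentation.toSubmodule h)
  by_cases h0 : S.toSubmodule = ⊥
  · exact Or.inl (Subrepresentation.toSubmodule_injective h0)
  right
  refine Subrepresentation.toSubmodule_injective ?_
  show S.toSubmodule = ⊤
  by_contra htop
  set U := S.toSubmodule with hUdef
  let b := Module.finBasis ℂ U
  let ip : W → W → ℂ := fun u w => ∑ i, conj (j u i) * j w i
  let T : W →ₗ[ℂ] (Fin (Module.finrank ℂ U) → ℂ) :=
    LinearMap.pi fun k => ∑ i, conj (j (b k).1 i) • ((LinearMap.proj i : (Fin m → ℂ) →ₗ[ℂ] ℂ) ∘ₗ j)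
  have hT : ∀ w k, T w k = ip (b k).1 w := fun w k => by simp [T, ip, LinearMap.sum_apply]
  have horth : ∀ w ∈ LinearMap.ker T, ∀ u ∈ U, ip u w = 0 := by
    intro w hw u hu
    have hu' : u = ∑ k, b.repr ⟨u, hu⟩ k • (b k).1 := by
      have := congrArg Subtype.val (b.sum_repr ⟨u, hu⟩)
      rw [Submodule.coe_sum] at this
      exact this.symm
    have hcoord : ∀ i, j u i = ∑ k, b.repr ⟨u, hu⟩ k * j (b k).1 i := fun i => by
      conv_lhs => rw [hu']
      simp [map_sum, Finset.sum_apply]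
    calc ip u w = ∑ k, conj (b.repr ⟨u, hu⟩ k) * ip (b k).1 w := by
          simp only [ip, hcoord, map_sum, map_mul, Finset.sum_mul, Finset.mul_sum]
          rw [Finset.sum_comm]
          exact Finset.sum_congr rfl fun k _ => Finset.sum_congr rfl fun i _ => by ring
      _ = 0 := Finset.sum_eq_zero fun k _ => by
          rw [← hT, LinearMap.mem_ker.1 hw]; simp
  have hip : ∀ g u w, ip (ρ g u) (ρ g w) = ip u w := fun g u w =>
    Fintype.sum_equiv (σ g) _ _ fun i => by rw [hσ, hσ]
  have hinv : ∀ g : G, ∀ w ∈ LinearMap.ker T, ρ g w ∈ LinearMap.ker T := by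
    intro g w hw
    rw [LinearMap.mem_ker]
    funext k
    rw [hT, Pi.zero_apply, ← hip g⁻¹, ← Module.End.mul_apply, ← map_mul, inv_mul_cancel,
      map_one, Module.End.one_apply]
    exact horth w hw _ (S.apply_mem_toSubmodule g⁻¹ (b k).2)
  have hpos : LinearMap.ker T ⊓ U = ⊥ := by
    rw [eq_bot_iff]
    rintro u ⟨hu, hu'⟩
    have h := horth u hu u hu'
    simp only [ip, ← Complex.normSq_eq_conj_mul_self] at h
    rw [← Complex.ofReal_sum, Complex.ofReal_eq_zero,
      Finset.sum_eq_zero_iff_of_nonneg (fun i _ => Complex.normSq_nonneg _)] at h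
    refine (Submodule.mem_bot ℂ).2 (hj ?_)
    rw [map_zero]
    exact funext fun i => Complex.normSq_eq_zero.1 (h i (Finset.mem_univ _))
  have hd : Module.finrank ℂ U < Module.finrank ℂ W := Submodule.finrank_lt htop
  have hrk := LinearMap.finrank_range_add_finrank_ker T
  have hr : Module.finrank ℂ (LinearMap.range T) ≤ Module.finrank ℂ U := by
    refine (Submodule.finrank_le _).trans ?_
    rw [Module.finrank_fintype_fun_eq_card, Fintype.card_fin]
  have hk0 : LinearMap.ker T ≠ ⊥ := fun h => by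
    rw [h, finrank_bot] at hrk
    omega
  have h1 := hbound U (fun g x hx => S.apply_mem_toSubmodule g hx) h0
  have h2' := hbound _ hinv hk0
  have hsum := Submodule.finrank_sup_add_finrank_inf_eq (LinearMap.ker T) U
  rw [hpos, finrank_bot, add_zero] at hsum
  have := Submodule.finrank_le (LinearMap.ker T ⊔ U)
  omega

end perm

variable {F : Type*} [Field F] [Fintype F] [DecidableEq F] {l : ℕ}

/-- A subgroup whose cosets are counted by the radical is complementary to it. -/
theorem regular (hl : 2 ≤ l) (K : Subgroup (SpecialLinearGroup (Fin (l + 1)) F)) (hK : K ≠ ⊤)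
    (hm : K.index = Fintype.card F ^ l) :
    (∀ b : Fin l → F, b ≠ 0 → tx b ∉ K) ∧
      (∀ g : SpecialLinearGroup (Fin (l + 1)) F, ∃ b : Fin l → F, tx b * g ∈ K) ∧
      (∀ (u φ : Fin (l + 1) → F) (h : φ ⬝ᵥ u = 0), u ≠ 0 → φ ≠ 0 → vt u φ h ∉ K) := by
  classical
  set G := SpecialLinearGroup (Fin (l + 1)) F
  set m := K.index with hmdef
  have hm2 : 2 ≤ m := by
    have h1 := Subgroup.one_lt_index_of_ne_top hK
    omega
  let e : G ⧸ K ≃ Fin m := Finite.equivFinOfCardEq rfl
  haveI := nontrivial_sz hm2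
  obtain ⟨d, hd1, hd, -⟩ := crude (prm e) (by omega) (trans_two hl) (noFix_prm (G := G) e)
  rw [finrank_sz (by omega)] at hd
  have hw0 : dm (prm e) (0 : Fin l → F) = 0 := by
    have := Nat.le_mul_of_pos_left (Fintype.card F ^ l - 1) hd1
    omega
  have hp0 : pr (prm e) (0 : Fin l → F) = 0 := LinearMap.range_eq_bot.1 (Submodule.finrank_eq_zero.1 hw0)
  have hnofix : ∀ f : sz m, (∀ b : Fin l → F, prm e (tx b) f = f) → f = 0 := by
    intro f hf
    have h := LinearMap.congr_fun hp0 f
    simp only [pr, LinearMap.smul_apply, LinearMap.sum_apply, LinearMap.zero_apply, chv_apply, dotProduct_zero,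
      AddChar.map_zero_eq_one, one_smul, hf, Finset.sum_const, Finset.card_univ] at h
    rw [← Nat.cast_smul_eq_nsmul ℂ, smul_smul, inv_mul_cancel₀ (Nat.cast_ne_zero.2 Fintype.card_ne_zero),
      one_smul] at h
    exact h
  have htrans : ∀ x y : G ⧸ K, ∃ b : Fin l → F, tx b • x = y := by
    intro x y
    by_contra hne
    push Not at hne
    let O : Finset (G ⧸ K) := Finset.univ.filter fun z => ∃ b : Fin l → F, tx b • x = z
    have hO : ∀ (c : Fin l → F) z, tx c • z ∈ O ↔ z ∈ O := by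
      intro c z
      simp only [O, Finset.mem_filter, Finset.mem_univ, true_and]
      constructor
      · rintro ⟨b, hb⟩
        refine ⟨-c + b, ?_⟩
        rw [tx_add, mul_smul, hb, ← mul_smul, ← tx_add, neg_add_cancel, tx_zero, one_smul]
      · rintro ⟨b, hb⟩
        exact ⟨c + b, by rw [tx_add, mul_smul, hb]⟩
    let f0 : Fin m → ℂ := fun i => (if e.symm i ∈ O then (m : ℂ) else 0) - (O.card : ℂ)
    have hf0 : f0 ∈ sz m := by
      rw [mem_sz]
      simp only [f0, Finset.sum_sub_distrib, Finset.sum_const, Finset.card_univ, Fintype.card_fin, nsmul_eq_mul]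
      rw [e.symm.sum_comp (fun z => if z ∈ O then (m : ℂ) else 0), Finset.sum_ite_mem, Finset.univ_inter,
        Finset.sum_const, nsmul_eq_mul]
      ring
    have h0 := hnofix ⟨f0, hf0⟩ fun b => Subtype.ext (funext fun i => by
      rw [prm_apply]
      have hinv : (tx b)⁻¹ = tx (-b) := inv_eq_of_mul_eq_one_left (by rw [← tx_add, neg_add_cancel, tx_zero])
      simp only [f0, Equiv.symm_apply_apply, hinv, hO])
    have hx : x ∈ O := Finset.mem_filter.2 ⟨Finset.mem_univ _, 0, by rw [tx_zero, one_smul]⟩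
    have hy : y ∉ O := fun h => by
      obtain ⟨b, hb⟩ := (Finset.mem_filter.1 h).2
      exact hne b hb
    have h1 := congrArg (fun f : sz m => f.1 (e y)) h0
    simp [f0, hy] at h1
    exact Finset.ne_empty_of_mem hx h1
  set x0 : G ⧸ K := ((1 : G) : G ⧸ K) with hx0
  have hmem : ∀ g : G, g • x0 = x0 ↔ g ∈ K := by
    intro g
    show ((g * 1 : G) : G ⧸ K) = ((1 : G) : G ⧸ K) ↔ _
    rw [mul_one, eq_comm, QuotientGroup.eq]
    simp
  have hnot : ∀ b : Fin l → F, b ≠ 0 → tx b ∉ K := by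
    intro b hb hbK
    have hall : ∀ z : G ⧸ K, tx b • z = z := by
      intro z
      obtain ⟨c, rfl⟩ := htrans x0 z
      rw [← mul_smul, ← tx_add, add_comm b c, tx_add, mul_smul, (hmem _).2 hbK]
    have hcore : tx b ∈ K.normalCore := by
      intro g
      rw [← hmem, mul_smul, mul_smul, hall, smul_inv_smul]
    apply hK
    rw [eq_top_iff, ← eq_top_of_vt (by omega) K.normalCore fun u φ h => ?_]
    · exact Subgroup.normalCore_le K
    rcases eq_or_ne u 0 with rfl | hu
    · rw [show vt 0 φ h = 1 from Subtype.ext (by simp [vt_coe])]; exact one_mem _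
    rcases eq_or_ne φ 0 with rfl | hφ
    · rw [show vt u 0 h = 1 from Subtype.ext (by simp [vt_coe])]; exact one_mem _
    rw [tx_eq_vt] at hcore
    obtain ⟨g, hg⟩ := isConj_iff.1 (isConj_vt (by simp; omega) (u := Pi.single 0 1) (φ := Fin.cons 0 b) (by simp) h
      (by simp) (fun h0 => hb (funext fun i => by simpa using congrFun h0 i.succ)) hu hφ)
    rw [← hg]
    exact Subgroup.Normal.conj_mem inferInstance _ hcore g
  refine ⟨hnot, fun g => ?_, fun u φ h hu hφ hv => ?_⟩
  · obtain ⟨b, hb⟩ := htrans (g • x0) x0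
    exact ⟨b, (hmem _).1 (by rw [mul_smul, hb])⟩
  · haveI : Nonempty (Fin l) := ⟨⟨0, by omega⟩⟩
    set b : Fin l → F := fun _ => 1
    have hb : b ≠ 0 := fun h0 => one_ne_zero (congrFun h0 ⟨0, by omega⟩)
    obtain ⟨g, hg⟩ := isConj_iff.1 (isConj_vt (by simp; omega) h (show Fin.cons (0 : F) b ⬝ᵥ Pi.single 0 1 = 0 by simp)
      hu hφ (by simp) (fun h0 => hb (funext fun i => by simpa using congrFun h0 i.succ)))
    rw [← tx_eq_vt] at hg
    obtain ⟨c, hc⟩ := htrans x0 (g • x0)
    apply hnot b hb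
    rw [← hmem]
    have hfix : tx b • (g • x0) = g • x0 := by
      rw [← hg, ← mul_smul, inv_mul_cancel_right, mul_smul, (hmem _).2 hv]
    rw [← hc, ← mul_smul, ← tx_add, add_comm b c, tx_add, mul_smul] at hfix
    exact MulAction.injective (tx c) hfix

/-- The block element of a subgroup complementary to the radical. -/
theorem exists_block {K : Subgroup (SpecialLinearGroup (Fin (l + 1)) F)}
    (htr : ∀ g : SpecialLinearGroup (Fin (l + 1)) F, ∃ b : Fin l → F, tx b * g ∈ K)
    (A : SpecialLinearGroup (Fin l) F) :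
    ∃ (c : Fin l → F) (k : SpecialLinearGroup (Fin (l + 1)) F), k ∈ K ∧
      (k : Matrix (Fin (l + 1)) (Fin (l + 1)) F) = blkM 1 c A.1 := by
  obtain ⟨b, hb⟩ := htr (emb A)
  refine ⟨b ᵥ* A.1, _, hb, ?_⟩
  show blkM 1 b 1 * blkM 1 0 A.1 = _
  rw [blkM_mul]
  simp

theorem blk2 (c : Fin 2 → F) (A : Matrix (Fin 2) (Fin 2) F) :
    blkM 1 c A = !![1, c 0, c 1; 0, A 0 0, A 0 1; 0, A 1 0, A 1 1] := by
  ext i j
  fin_cases i <;> fin_cases j <;> rfl

/-- No subgroup of index four power in `SL_3` in characteristic two. -/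
theorem no_small_two (h2 : (2 : F) = 0) (K : Subgroup (SpecialLinearGroup (Fin (2 + 1)) F)) (hK : K ≠ ⊤) :
    K.index ≠ Fintype.card F ^ 2 := by
  intro hm
  obtain ⟨hnot, htr, hvt⟩ := regular le_rfl K hK hm
  obtain ⟨c, k, hk, hkM⟩ := exists_block htr ⟨!![1, 1; 0, 1], by simp [det_fin_two]⟩
  have hsq : k * k = tx ![0, c 0] := by
    refine Subtype.ext ?_
    show k.1 * k.1 = blkM 1 ![0, c 0] 1
    rw [hkM, blkM_mul]
    congr 1
    · simp
    · funext i
      fin_cases i <;> simp [vecMul, dotProduct, Fin.sum_univ_two, vecHead, vecTail] <;> linear_combination (norm := ring_nf) c _ * h2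
    · ext i j
      fin_cases i <;> fin_cases j <;> simp [Matrix.mul_apply, Fin.sum_univ_two]
      linear_combination h2
  have hc0 : c 0 = 0 := by
    by_contra hne
    exact hnot _ (fun h => hne (by simpa using congrFun h 1)) (hsq ▸ mul_mem hk hk)
  have hu : (![c 1, 1, 0] : Fin (2 + 1) → F) ≠ 0 := fun h => one_ne_zero (α := F) (by simpa using congrFun h 1)
  have hφ : (![0, 0, 1] : Fin (2 + 1) → F) ≠ 0 := fun h => one_ne_zero (α := F) (by simpa using congrFun h 2)
  refine hvt ![c 1, 1, 0] ![0, 0, 1] (by simp [dotProduct, Fin.sum_univ_three]) hu hφ ?_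
  · have e : k = vt ![c 1, 1, 0] ![0, 0, 1] (by simp [dotProduct, Fin.sum_univ_three]) := by
      refine Subtype.ext ?_
      rw [vt_coe, hkM, blk2]
      ext i j
      fin_cases i <;> fin_cases j <;> simp [hc0, vecMulVec_apply, Matrix.one_apply]
    rw [← e]; exact hk

section three

theorem blk3 (c : Fin 3 → F) (A : Matrix (Fin 3) (Fin 3) F) :
    blkM 1 c A = !![1, c 0, c 1, c 2; 0, A 0 0, A 0 1, A 0 2; 0, A 1 0, A 1 1, A 1 2; 0, A 2 0, A 2 1, A 2 2] := by
  ext i j
  fin_cases i <;> fin_cases j <;> rfl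

theorem cube_eq (h3 : (3 : F) = 0) (s t u v w : F) :
    (!![1, s, t, u; 0, 1, 1, v; 0, 0, 1, w; 0, 0, 0, 1] : Matrix (Fin (3 + 1)) (Fin (3 + 1)) F) *
        !![1, s, t, u; 0, 1, 1, v; 0, 0, 1, w; 0, 0, 0, 1] * !![1, s, t, u; 0, 1, 1, v; 0, 0, 1, w; 0, 0, 0, 1] =
      blkM 1 ![0, 0, s * w] 1 := by
  rw [blk3]
  ext i j
  fin_cases i <;> fin_cases j <;> simp [Matrix.mul_apply, Fin.sum_univ_four, Matrix.one_apply] <;> grind

/-- No subgroup of index twenty-seven power in `SL_4` in characteristic three. -/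
theorem no_small_three (h3 : (3 : F) = 0) (K : Subgroup (SpecialLinearGroup (Fin (3 + 1)) F)) (hK : K ≠ ⊤) :
    K.index ≠ Fintype.card F ^ 3 := by
  intro hm
  obtain ⟨hnot, htr, hvt⟩ := regular (by norm_num) K hK hm
  obtain ⟨a, k1, hk1, hk1M⟩ := exists_block htr ⟨!![1, 1, 0; 0, 1, 0; 0, 0, 1], by simp [det_fin_three]⟩
  obtain ⟨b, k2, hk2, hk2M⟩ := exists_block htr ⟨!![1, 0, 0; 0, 1, 1; 0, 0, 1], by simp [det_fin_three]⟩
  rw [blk3] at hk1M hk2M
  have hzero : ∀ (k : SpecialLinearGroup (Fin (3 + 1)) F) (s t u v w : F), k ∈ K →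
      k.1 = !![1, s, t, u; 0, 1, 1, v; 0, 0, 1, w; 0, 0, 0, 1] → s * w = 0 := by
    intro k s t u v w hk hkM
    have he : k * k * k = tx ![0, 0, s * w] := by
      refine Subtype.ext ?_
      show k.1 * k.1 * k.1 = blkM 1 ![0, 0, s * w] 1
      rw [hkM]
      exact cube_eq h3 s t u v w
    by_contra hne
    exact hnot _ (fun h => hne (by simpa using congrFun h 2)) (he ▸ mul_mem (mul_mem hk hk) hk)
  have e1 := hzero _ (a 0 + b 0) (a 1 + b 1) (a 1 + a 2 + b 2) 1 1 (mul_mem hk1 hk2) (by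
    show k1.1 * k2.1 = _
    rw [hk1M, hk2M]
    ext i j
    fin_cases i <;> fin_cases j <;> simp [Matrix.mul_apply, Fin.sum_univ_four] <;> grind)
  have e2 := hzero _ (a 0 + 2 * b 0) (a 1 + 2 * b 1) (2 * a 1 + a 2 + b 1 + 2 * b 2) 2 2
    (mul_mem (mul_mem hk1 hk2) hk2) (by
    show k1.1 * k2.1 * k2.1 = _
    rw [hk1M, hk2M]
    ext i j
    fin_cases i <;> fin_cases j <;> simp [Matrix.mul_apply, Fin.sum_univ_four] <;> grind)
  have hb0 : b 0 = 0 := by grind
  have hv : (![0, 0, 0, 1] : Fin (3 + 1) → F) ⬝ᵥ ![a 1, 1, 0, 0] = 0 := by simp [dotProduct, Fin.sum_univ_four]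
  have hu : (![a 1, 1, 0, 0] : Fin (3 + 1) → F) ≠ 0 := fun h => one_ne_zero (α := F) (by simpa using congrFun h 1)
  have hφ : (![0, 0, 0, 1] : Fin (3 + 1) → F) ≠ 0 := fun h => one_ne_zero (α := F) (by simpa using congrFun h 3)
  refine hvt ![a 1, 1, 0, 0] ![0, 0, 0, 1] hv hu hφ ?_
  have e : k1 * k2 = vt ![a 1, 1, 0, 0] ![0, 0, 0, 1] hv * (k2 * k1) := by
    refine Subtype.ext ?_
    show k1.1 * k2.1 = (1 + vecMulVec ![a 1, 1, 0, 0] ![0, 0, 0, 1]) * (k2.1 * k1.1)
    rw [hk1M, hk2M]
    ext i j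
    fin_cases i <;> fin_cases j <;>
      simp [Matrix.mul_apply, Fin.sum_univ_four, vecMulVec_apply, Matrix.one_apply] <;> grind
  rw [eq_mul_inv_of_mul_eq e.symm]
  exact mul_mem (mul_mem hk1 hk2) (inv_mem (mul_mem hk2 hk1))

end three

variable (F) in
/-- The minimal index of a proper subgroup of `SL_{l+1}(q)`. -/
theorem index_bound (hl : 2 ≤ l) (hexc : ¬ (l = 3 ∧ Fintype.card F = 2))
    (K : Subgroup (SpecialLinearGroup (Fin (l + 1)) F)) (hK : K ≠ ⊤) :
    gs (Fintype.card F) (l + 1) ≤ K.index := by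
  classical
  set G := SpecialLinearGroup (Fin (l + 1)) F
  set q := Fintype.card F with hq
  set m := K.index with hmdef
  have hm2 : 2 ≤ m := by
    have h1 := Subgroup.one_lt_index_of_ne_top hK
    omega
  let e : G ⧸ K ≃ Fin m := Finite.equivFinOfCardEq rfl
  haveI := nontrivial_sz hm2
  have hnf : NoFix (prm (G := G) e) := noFix_prm e
  by_cases hok : Ok l q
  · obtain ⟨U, σ, hσ, hσf, hUnt⟩ := exists_irr (prm e) hnf
    haveI := hUnt
    have h1 := irr_bound F l hl hok U σ hσ hσf
    have h2 := Submodule.finrank_le U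
    rw [finrank_sz (by omega)] at h2
    rw [← hq] at h1
    omega
  by_contra hlt
  rw [not_le] at hlt
  have hge : q ^ l - 1 ≤ m - 1 := by
    have := orbit_le (prm e) (by omega) (trans_two hl) hnf
    rwa [finrank_sz (by omega)] at this
  have hN : (q - 1) * Nat.card G = ∏ i : Fin (l + 1), (q ^ (l + 1) - q ^ (i : ℕ)) := by
    rw [hq, SLCard.card_units_mul_card_SL (by omega), Matrix.card_GL_field]
  have hdiv : m - 1 < 2 * (q ^ l - 1) → (m - 1) ∣ Nat.card G := fun h => by
    haveI := irreducible_of_perm (prm (G := G) e) hnf (sz m).subtype Subtype.val_injective (pe e)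
      (fun g w i => prm_apply e g w i) (q ^ l - 1)
      (fun W' _ _ _ _ τ hf => orbit_le τ (by omega) (trans_two hl) hf) (by rw [finrank_sz (by omega)]; exact h)
    have := CfsgLib.CharTheory.degree_dvd_index_of_scalar (prm (G := G) e) ⊥
      (fun z hz => ⟨1, by rw [Subgroup.mem_bot.1 hz, map_one, one_smul]; rfl⟩)
    rwa [finrank_sz (by omega), Subgroup.index_bot] at this
  have hdvd : m ∣ Nat.card G := K.index_dvd_card
  rcases (show (l = 2 ∧ q = 2) ∨ (l = 2 ∧ q = 4) ∨ (l = 3 ∧ q = 3) by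
    unfold Ok at hok
    omega) with ⟨rfl, hq'⟩ | ⟨rfl, hq'⟩ | ⟨rfl, hq'⟩
  all_goals rw [hq'] at hge hlt hdiv hN
  all_goals simp only [gs, Finset.sum_range_succ, Finset.sum_range_zero, Fin.prod_univ_succ, Fin.prod_univ_zero,
    Fin.val_zero, Fin.val_succ] at hlt hN
  all_goals norm_num [-Nat.card_eq_fintype_card] at hge hlt hdiv hN
  · have h2F : (2 : F) = 0 := by
      have := FiniteField.cast_card_eq_zero F
      rw [← hq, hq'] at this
      exact_mod_cast this
    have hne := no_small_two h2F K hK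
    rw [← hq, hq', ← hmdef] at hne
    norm_num at hne
    have h1 := hdiv (by omega)
    rw [hN] at h1 hdvd
    have key : ∀ k < 7, 4 ≤ k → k ≠ 4 → k ∣ 168 → (k - 1) ∣ 168 → False := by decide
    exact key m hlt (by omega) hne hdvd h1
  · have h2F : (2 : F) = 0 := by
      have h4 : (4 : F) = 0 := by
        have := FiniteField.cast_card_eq_zero F
        rw [← hq, hq'] at this
        exact_mod_cast this
      exact mul_self_eq_zero.1 (by linear_combination h4)
    have hne := no_small_two h2F K hK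
    rw [← hq, hq', ← hmdef] at hne
    norm_num at hne
    have h1 := hdiv (by omega)
    rw [show Nat.card G = 60480 by omega] at h1 hdvd
    have key : ∀ k < 21, 16 ≤ k → k ≠ 16 → k ∣ 60480 → (k - 1) ∣ 60480 → False := by decide
    exact key m hlt (by omega) hne hdvd h1
  · have h3F : (3 : F) = 0 := by
      have := FiniteField.cast_card_eq_zero F
      rw [← hq, hq'] at this
      exact_mod_cast this
    have hne := no_small_three h3F K hK
    rw [← hq, hq', ← hmdef] at hne
    norm_num at hne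
    have h1 := hdiv (by omega)
    rw [show Nat.card G = 12130560 by omega] at h1 hdvd
    have key : ∀ k < 40, 27 ≤ k → k ≠ 27 → k ∣ 12130560 → (k - 1) ∣ 12130560 → False := by decide
    exact key m hlt (by omega) hne hdvd h1

end CfsgLib.SLMin
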